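import Cfsg.Agent.H307.FourOdd.Defs
import Cfsg.Agent.S4483
import Cfsg.Agent.Characters.GaloisIrr
import Cfsg.Agent.FastGrp
import Cfsg.Agent.Prune
set_option linter.all false

section
prune_inst 0x7f00000000000000000000000000000000000000000000000000000000000000000000000000000000000000000000000000000000000000000000000000000000000000000000000000000000000000003fffffffffffffffffffffffffffbeffbdffffffff

-- part: H601/K4/Defs
section
set_option linter.all false
open scoped Cfsg.Agent.FastGrp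

/-!
# S4947 / S4547: the interface of the rows (helper601)

For a finite nonabelian simple group `S`:

* `OddIrr χ` : `χ` is an irreducible character of odd degree;
* `SigFix χ` : `χ` is fixed by the Galois automorphism cubing the 2-power roots of unity and fixing the odd ones;
* `InB0 χ` : `χ` is in the principal 2-block;
* `Odd5 S` : row (A) of S4947, five irreducible characters of odd degree;
* `Good5 S` : row (A) of S4547, five such characters which are `SigFix` and `InB0`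
  (a real-valued one is `InB0`, `InB0.of_real`; a rational-valued one is `SigFix`, `SigFix.of_rat`);
* `Inv3 S` : row (B) of S4947, for every automorphism of 2-power order modulo inner automorphisms, three
  invariant irreducible characters of odd degree;
* `AutInv3 S` : three irreducible characters of odd degree, invariant under all automorphisms.
-/

set_option autoImplicit false

namespace Cfsg.Agent.H601.K4

open Cfsg Cfsg.Agent.Characters.Core

universe u v

section defs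

variable {S : Type u} [Group S]

/-- an irreducible character of odd degree -/
def OddIrr (χ : S → ℂ) : Prop := IsIrrCharacter S χ ∧ ¬ 2 ∣ charDegree χ

/-- fixed by the Galois automorphism which cubes the 2-power roots of unity and fixes the odd order ones -/
def SigFix (χ : S → ℂ) : Prop :=
  ∀ k : ℕ, (∀ g : S, (∃ j : ℕ, orderOf g = 2 ^ j) → g ^ k = g ^ 3) → (∀ g : S, Odd (orderOf g) → g ^ k = g) →
    ∀ g : S, χ (g ^ k) = χ g

/-- in the principal 2-block -/
def InB0 (χ : S → ℂ) : Prop :=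
  ∀ (M : Ideal AlgInt) (_ : IsPModular 2 M) (h : IsIrrCharacter S χ), (⟨χ, h⟩ : IrrCharacter S) ∈ principalBlock M S

/-- an odd degree, `σ`-fixed irreducible character in the principal 2-block -/
structure Good (χ : S → ℂ) : Prop where
  odd : OddIrr χ
  sig : SigFix χ
  b0 : InB0 χ

end defs

/-- Row (A) of S4947. -/
def Odd5 (S : Type u) [Group S] : Prop := ∃ χ : Fin 5 → S → ℂ, Function.Injective χ ∧ ∀ i, OddIrr (χ i)

/-- Row (A) of S4547. -/
def Good5 (S : Type u) [Group S] : Prop := ∃ χ : Fin 5 → S → ℂ, Function.Injective χ ∧ ∀ i, Good (χ i)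

/-- Row (B) of S4947. -/
def Inv3 (S : Type u) [Group S] : Prop :=
  ∀ φ : MulAut S, (∃ (k : ℕ) (s : S), ∀ x, (φ ^ 2 ^ k) x = s * x * s⁻¹) →
    ∃ χ : Fin 3 → S → ℂ, Function.Injective χ ∧ ∀ i, OddIrr (χ i) ∧ ∀ x, χ i (φ x) = χ i x

/-- Three irreducible characters of odd degree, invariant under all automorphisms. -/
def AutInv3 (S : Type u) [Group S] : Prop :=
  ∃ χ : Fin 3 → S → ℂ, Function.Injective χ ∧ ∀ i, OddIrr (χ i) ∧ ∀ (φ : MulAut S) (x : S), χ i (φ x) = χ i x

section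

variable {S : Type u} [Group S]

theorem AutInv3.inv3 (h : AutInv3 S) : Inv3 S := by
  obtain ⟨χ, h1, h2⟩ := h
  exact fun φ _ => ⟨χ, h1, fun i => ⟨(h2 i).1, (h2 i).2 φ⟩⟩

theorem Good5.odd5 (h : Good5 S) : Odd5 S := by
  obtain ⟨χ, h1, h2⟩ := h
  exact ⟨χ, h1, fun i => (h2 i).odd⟩

/-- Five characters and only inner automorphisms. -/
theorem AutInv3.of_inner (h : Odd5 S) (hin : ∀ φ : MulAut S, ∃ s : S, ∀ x, φ x = s * x * s⁻¹) : AutInv3 S := by
  obtain ⟨χ, h1, h2⟩ := h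
  refine ⟨fun i => χ (Fin.castLE (by norm_num) i), fun i j hij => by simpa using h1 hij, fun i => ⟨h2 _, fun φ x => ?_⟩⟩
  obtain ⟨s, hs⟩ := hin φ
  rw [hs]
  exact isIrr_isClassFunction (h2 _).1 x s

theorem _root_.Cfsg.Agent.H601.OddDeg.Inv.oddIrr {χ : S → ℂ} (h : H601.OddDeg.Inv χ) : OddIrr χ := ⟨h.1, h.2.2.1⟩

/-- a rational-valued character is `σ`-fixed -/
theorem SigFix.of_pow {χ : S → ℂ} [Finite S] (h : ∀ (k : ℕ), k.Coprime (Nat.card S) → ∀ g : S, χ (g ^ k) = χ g) :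
    SigFix χ := by
  intro k h2 h3 g
  -- the exponent `k` is a unit modulo the order of `g`
  have hk : (orderOf g).Coprime k := by
    rw [Nat.coprime_iff_gcd_eq_one]
    by_contra hne
    obtain ⟨p, hp, hpd⟩ := Nat.exists_prime_and_dvd hne
    have hpg : p ∣ orderOf g := hpd.trans (Nat.gcd_dvd_left _ _)
    have hpk : p ∣ k := hpd.trans (Nat.gcd_dvd_right _ _)
    obtain ⟨y, hy⟩ : ∃ y : S, orderOf y = p := ⟨g ^ (orderOf g / p), by
      have h0 : 0 < orderOf g := orderOf_pos g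
      exact orderOf_pow_orderOf_div h0.ne' hpg⟩
    have hyk : y ^ k = 1 := by
      rw [← orderOf_dvd_iff_pow_eq_one, hy]
      exact hpk
    rcases hp.eq_two_or_odd' with rfl | hodd
    · have h4 := h2 y ⟨1, by rw [hy, pow_one]⟩
      rw [hyk] at h4
      have h5 : orderOf y ∣ 3 := orderOf_dvd_of_pow_eq_one h4.symm
      rw [hy] at h5
      omega
    · have h4 := h3 y (by rw [hy]; exact hodd)
      rw [hyk] at h4
      rw [← h4, orderOf_one] at hy
      exact hp.one_lt.ne hy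
  -- a representative of `k` modulo the order of `g` prime to the order of the group
  have hn0 : Nat.card S ≠ 0 := Nat.card_pos.ne'
  obtain ⟨k', hk', hk2⟩ : ∃ k' : ℕ, k' ≡ k [MOD orderOf g] ∧ k'.Coprime (Nat.card S) := by
    let u : (ZMod (orderOf g))ˣ := ZMod.unitOfCoprime k hk.symm
    have : NeZero (Nat.card S) := ⟨hn0⟩
    obtain ⟨w, hw⟩ := ZMod.unitsMap_surjective (orderOf_dvd_natCard g) u
    refine ⟨(w : ZMod (Nat.card S)).val, ?_, ZMod.val_coe_unit_coprime w⟩
    rw [← ZMod.natCast_eq_natCast_iff]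
    have h4 := congrArg Units.val hw
    rw [ZMod.unitsMap_val] at h4
    rw [ZMod.coe_unitOfCoprime] at h4
    rw [← h4, ← ZMod.cast_eq_val]
  have h4 : g ^ k' = g ^ k := pow_eq_pow_iff_modEq.2 hk'
  rw [← h4]
  exact h k' hk2 g

/-- real-valued odd degree characters are in the principal 2-block (S4483) -/
theorem InB0.of_real [Finite S] {χ : S → ℂ} (h : OddIrr χ) (hr : ∀ x, (χ x).im = 0) : InB0 χ := by
  intro M hM hi
  exact (S4483.result M hM).1 ⟨χ, hi⟩ hr (Nat.not_even_iff_odd.1 fun h2 => h.2 h2.two_dvd)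

end

end Cfsg.Agent.H601.K4
end

-- part: H821/K547/Defs
section
set_option linter.all false

/-!
# S4547: the interface of the rows (hub helper821)

For a finite nonabelian simple group `S`:

* `Rk n P` : `P` maps onto an elementary abelian group of order `2 ^ n`;
* `D3 G` : the Sylow 2-subgroups of `G` need at least three generators;
* `XCond G` : some 2-element `x` with `|N_G(<x>)|_2 ≤ 2 |x|` (then `G` has at most four good characters, its Sylow
  2-subgroups have at most two generators, and `XCond` passes to overgroups of odd index);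
* `TwoPow τ` : `τ` has 2-power order modulo inner automorphisms; `IsInn τ`: inner;
* `AutExt τ` : the group `Inn S <τ>`;
* `GInv3 τ` : three good characters of `S` which are `τ`-invariant;
* `BaseRow S`, `ExtRow S τ`, `Row S`.
-/

set_option autoImplicit false

namespace Cfsg.Agent.H821.K547

open Cfsg Cfsg.Agent.H601.K4

universe u

/-- `P` maps onto an elementary abelian group of order `2 ^ n` -/
def Rk (n : ℕ) (P : Type u) [Group P] : Prop :=
  ∃ f : P →* Multiplicative (Fin n → ZMod 2), Function.Surjective f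

/-- the Sylow 2-subgroups need at least three generators -/
def D3 (G : Type u) [Group G] : Prop := ∀ Q : Sylow 2 G, Rk 3 Q

/-- some 2-element `x` with `|N_G(<x>)|_2 ≤ 2 |x|` -/
def XCond (G : Type u) [Group G] : Prop :=
  ∃ (x : G) (n : ℕ), orderOf x = 2 ^ n ∧ ¬ 2 ^ (n + 2) ∣ Nat.card ↥(Subgroup.normalizer (Subgroup.zpowers x : Set G))

section

variable {S : Type u} [Group S]

/-- an inner automorphism -/
def IsInn (τ : MulAut S) : Prop := ∃ s : S, ∀ x, τ x = s * x * s⁻¹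

/-- of 2-power order modulo inner automorphisms -/
def TwoPow (τ : MulAut S) : Prop := ∃ (k : ℕ) (s : S), ∀ x, (τ ^ 2 ^ k) x = s * x * s⁻¹

/-- the group `Inn S <τ>` -/
def AutExt (τ : MulAut S) : Subgroup (MulAut S) := (MulAut.conj : S →* MulAut S).range ⊔ Subgroup.zpowers τ

/-- three good `τ`-invariant characters -/
def GInv3 (τ : MulAut S) : Prop :=
  ∃ χ : Fin 3 → S → ℂ, Function.Injective χ ∧ ∀ i, Good (χ i) ∧ ∀ x, χ i (τ x) = χ i x

end

/-- the row of `S` itself -/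
def BaseRow (S : Type u) [Group S] : Prop := (Good5 S ∧ D3 S) ∨ XCond S

/-- the row of an outer 2-automorphism: `AutExt τ` has four good characters (equivalently `S` has two `τ`-invariant
good characters) iff its Sylow 2-subgroups have two generators -/
def ExtRow (S : Type u) [Group S] (τ : MulAut S) : Prop := GInv3 τ ↔ D3 (AutExt τ)

/-- everything that is needed for S4547 about a finite nonabelian simple group -/
structure Row (S : Type u) [Group S] : Prop where
  base : BaseRow S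
  ext : ∀ τ : MulAut S, TwoPow τ → ¬ IsInn τ → ExtRow S τ

end Cfsg.Agent.H821.K547
end

-- part: H921/K4/Uniq
section
set_option linter.all false
open scoped Cfsg.Agent.FastGrp

/-!
# K4 rows (S4947, S4547): characters determined by their degree (helper921)

* `Uniq χ` : `χ` is an irreducible character of odd degree, the only one of its degree;
* `Uniq.good`, `Uniq.inv` : such a character is `Good` and invariant under all automorphisms;
* `good5_of_uniq`, `autInv3_of_uniq`.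
-/

set_option autoImplicit false

namespace Cfsg.Agent.H921.K4

open Cfsg Cfsg.Agent.Characters.Core Cfsg.Agent.H601.K4
open scoped ComplexConjugate

universe u

variable {S : Type u} [Group S]

/-- An irreducible character of odd degree, the only one of its degree. -/
structure Uniq (χ : S → ℂ) : Prop where
  irr : IsIrrCharacter S χ
  odd : ¬ 2 ∣ charDegree χ
  uniq : ∀ ψ : S → ℂ, IsIrrCharacter S ψ → ψ 1 = χ 1 → ψ = χ

theorem Uniq.oddIrr {χ : S → ℂ} (h : Uniq χ) : OddIrr χ := ⟨h.irr, h.odd⟩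

theorem Uniq.real [Finite S] {χ : S → ℂ} (h : Uniq χ) (x : S) : (χ x).im = 0 := by
  have h1 : (fun g => conj (χ g)) = χ := by
    refine h.uniq _ (isIrr_conj h.irr) ?_
    show conj (χ 1) = χ 1
    rw [Cfsg.Agent.Blocks.Basic.irr_one_eq_charDegree h.irr, Complex.conj_natCast]
  exact Complex.conj_eq_iff_im.1 (congrFun h1 x)

theorem Uniq.inv {χ : S → ℂ} (h : Uniq χ) (φ : MulAut S) (x : S) : χ (φ x) = χ x := by
  have h1 : χ ∘ φ.toMonoidHom = χ := by
    refine h.uniq _ (isIrr_comp φ.toMonoidHom φ.surjective h.irr) ?_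
    show χ (φ 1) = χ 1
    rw [map_one]
  exact congrFun h1 x

theorem Uniq.rat [Finite S] {χ : S → ℂ} (h : Uniq χ) (k : ℕ) (hk : k.Coprime (Nat.card S)) (g : S) : χ (g ^ k) = χ g := by
  have h1 := h.uniq _ (Cfsg.Agent.Characters.GaloisIrr.isIrr_pow hk h.irr) (by
    show χ (1 ^ k) = χ 1
    rw [one_pow])
  exact congrFun h1 g

theorem Uniq.good [Finite S] {χ : S → ℂ} (h : Uniq χ) : Good χ where
  odd := h.oddIrr
  sig := SigFix.of_pow h.rat
  b0 := InB0.of_real h.oddIrr h.real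

theorem injective_of_degree {n : ℕ} {χ : Fin n → S → ℂ} {d : Fin n → ℕ} (hd : Function.Injective d)
    (h : ∀ i, χ i 1 = d i) : Function.Injective χ := by
  intro i j hij
  apply hd
  have h1 : (d i : ℂ) = d j := by rw [← h, ← h, hij]
  exact_mod_cast h1

/-- A family of characters determined by their degrees. -/
theorem good5_of_uniq [Finite S] (χ : Fin 5 → S → ℂ) (h : ∀ i, Uniq (χ i)) (hinj : Function.Injective χ) : Good5 S :=
  ⟨χ, hinj, fun i => (h i).good⟩

/-- Characters of a group with a known list of degrees. -/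
theorem uniq_of_enum {n : ℕ} (f : Fin n ≃ IrrCharacter S) (d : Fin n → ℕ)
    (hd : ∀ i, charDegree (f i : S → ℂ) = d i) (i : Fin n) (hi : ∀ j, d j = d i → j = i) (ho : d i % 2 = 1) :
    Uniq (f i : S → ℂ) where
  irr := (f i).2
  odd := by rw [hd]; omega
  uniq := by
    intro ψ hψ h1
    have h2 : (⟨ψ, hψ⟩ : IrrCharacter S) = f (f.symm ⟨ψ, hψ⟩) := (f.apply_symm_apply _).symm
    have h3 : d (f.symm ⟨ψ, hψ⟩) = d i := by
      rw [← hd, ← hd, ← h2]
      have h4 := Cfsg.Agent.Blocks.Basic.irr_one_eq_charDegree hψ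
      have h5 := Cfsg.Agent.Blocks.Basic.irr_one_eq_charDegree (f i).2
      rw [h4, h5] at h1
      exact_mod_cast h1
    have h4 := hi _ h3
    rw [h4] at h2
    exact congrArg Subtype.val h2

/-- Transport along an isomorphism. -/
theorem Uniq.comp {T : Type u} [Group T] (e : S ≃* T) {χ : T → ℂ} (h : Uniq χ) : Uniq (fun s => χ (e s)) where
  irr := isIrr_comp e.toMonoidHom e.surjective h.irr
  odd := by
    have h1 : charDegree (fun s => χ (e s)) = charDegree χ := by
      show ⌊(χ (e 1)).re⌋₊ = ⌊(χ 1).re⌋₊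
      rw [map_one]
    rw [h1]
    exact h.odd
  uniq := by
    intro ψ hψ h1
    have h2 := h.uniq _ (isIrr_comp e.symm.toMonoidHom e.symm.surjective hψ) (by
      show ψ (e.symm 1) = χ 1
      rw [map_one, h1, map_one])
    funext s
    have h3 := congrFun h2 (e s)
    show ψ s = χ (e s)
    rw [← h3]
    show ψ s = ψ (e.symm (e s))
    rw [e.symm_apply_apply]

end Cfsg.Agent.H921.K4
end

-- part: H951/K547/Rk
section
set_option linter.all false
open scoped Cfsg.Agent.FastGrp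

/-!
# S4547: criteria for the number of generators of a 2-group (helper951)

* `rk_of_sq` : all squares of `P` lie in `N`, `2 ^ n ≤ |P : N|` imply `Rk n P`;
* `Sq Q` : the subgroup generated by the squares of `Q`; `four_le_of_rk`, `eight_le_of_rk`.
-/

set_option autoImplicit false

namespace Cfsg.Agent.H951.K547

open Cfsg.Agent.H821.K547

universe u v

/-- a group of exponent two and order at least `2 ^ n` -/
theorem rk_of_exp_two {n : ℕ} {A : Type u} [Group A] [Finite A] (h : ∀ a : A, a ^ 2 = 1) (hc : 2 ^ n ≤ Nat.card A) :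
    Rk n A := by
  classical
  have hcomm : ∀ a b : A, a * b = b * a := by
    intro a b
    have h1 := h (a * b)
    have ha : a⁻¹ = a := inv_eq_of_mul_eq_one_left (by rw [← pow_two]; exact h a)
    have hb : b⁻¹ = b := inv_eq_of_mul_eq_one_left (by rw [← pow_two]; exact h b)
    have h2 : (a * b)⁻¹ = a * b := inv_eq_of_mul_eq_one_left (by rw [← pow_two]; exact h1)
    rw [← h2, mul_inv_rev, ha, hb]
  letI : CommGroup A := { (inferInstance : Group A) with mul_comm := hcomm }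
  letI : Module (ZMod 2) (Additive A) := AddCommGroup.zmodModule (n := 2) (fun x => h x.toMul)
  have hfin : Finite (Additive A) := inferInstanceAs (Finite A)
  have : Module.Finite (ZMod 2) (Additive A) := Module.Finite.of_finite
  let d := Module.finrank (ZMod 2) (Additive A)
  have hd : Nat.card A = 2 ^ d := by
    have h1 : Nat.card (Additive A) = Nat.card (ZMod 2) ^ d := Module.natCard_eq_pow_finrank
    rw [Nat.card_zmod] at h1
    exact h1
  have hnd : n ≤ d := by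
    rw [hd] at hc
    exact (Nat.pow_le_pow_iff_right (by norm_num)).1 hc
  let e : Additive A ≃ₗ[ZMod 2] (Fin d → ZMod 2) := LinearEquiv.ofFinrankEq _ _ (by rw [Module.finrank_fin_fun])
  let g : A →* Multiplicative (Fin n → ZMod 2) :=
    { toFun := fun a => Multiplicative.ofAdd fun i => e (Additive.ofMul a) (Fin.castLE hnd i)
      map_one' := by
        simp only [ofMul_one, map_zero]
        rfl
      map_mul' := fun a b => by
        simp only [ofMul_mul, map_add]
        rfl }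
  refine ⟨g, fun v => ?_⟩
  obtain ⟨a, ha⟩ := e.surjective (fun j => if h : (j : ℕ) < n then v.toAdd ⟨j, h⟩ else 0)
  refine ⟨a.toMul, ?_⟩
  apply Multiplicative.toAdd.injective
  funext i
  show e (Additive.ofMul a.toMul) (Fin.castLE hnd i) = v.toAdd i
  rw [ofMul_toMul, ha]
  simp

theorem rk_of_surj {n : ℕ} {P : Type u} {P' : Type v} [Group P] [Group P'] (f : P →* P') (hf : Function.Surjective f)
    (h : Rk n P') : Rk n P := by
  obtain ⟨g, hg⟩ := h
  exact ⟨g.comp f, hg.comp hf⟩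

/-- a subgroup containing all squares is normal -/
theorem normal_of_sq {P : Type u} [Group P] {N : Subgroup P} (hN : ∀ x : P, x ^ 2 ∈ N) : N.Normal := by
  refine ⟨fun n hn g => ?_⟩
  have h1 : g * n * g⁻¹ = (g * n) ^ 2 * n⁻¹ * (g ^ 2)⁻¹ := by
    rw [pow_two, pow_two]
    group
  rw [h1]
  exact mul_mem (mul_mem (hN _) (inv_mem hn)) (inv_mem (hN _))

/-- **criterion** -/
theorem rk_of_sq {n : ℕ} {P : Type u} [Group P] [Finite P] {N : Subgroup P} (hN : ∀ x : P, x ^ 2 ∈ N)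
    (h : 2 ^ n ≤ N.index) : Rk n P := by
  have := normal_of_sq hN
  refine rk_of_surj (QuotientGroup.mk' N) (QuotientGroup.mk'_surjective N) (rk_of_exp_two (fun a => ?_) h)
  obtain ⟨x, rfl⟩ := QuotientGroup.mk'_surjective N a
  rw [← map_pow]
  exact (QuotientGroup.eq_one_iff _).2 (hN x)

/-- the kernel of a map onto an elementary abelian group -/
theorem exists_sq_of_rk {n : ℕ} {P : Type u} [Group P] (h : Rk n P) :
    ∃ N : Subgroup P, (∀ x : P, x ^ 2 ∈ N) ∧ N.index = 2 ^ n := by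
  obtain ⟨f, hf⟩ := h
  refine ⟨f.ker, fun x => ?_, ?_⟩
  · rw [MonoidHom.mem_ker, map_pow]
    have h2 : ∀ a : ZMod 2, a + a = 0 := by decide
    apply Multiplicative.toAdd.injective
    funext i
    rw [pow_two]
    exact h2 _
  · rw [Subgroup.index_ker, MonoidHom.range_eq_top.2 hf, Subgroup.card_top, Nat.card_congr Multiplicative.toAdd,
      Nat.card_fun, Nat.card_zmod, Nat.card_fin]

theorem rk_mono {m n : ℕ} (h : m ≤ n) {P : Type u} [Group P] [Finite P] (hP : Rk n P) : Rk m P := by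
  obtain ⟨N, h1, h2⟩ := exists_sq_of_rk hP
  exact rk_of_sq h1 (by rw [h2]; exact Nat.pow_le_pow_right (by norm_num) h)

/-! ### the subgroup of the squares -/

variable {Y : Type u} [Group Y]

/-- the subgroup generated by the squares of `Q` -/
def Sq (Q : Subgroup Y) : Subgroup Y := Subgroup.closure {y | ∃ x ∈ Q, y = x ^ 2}

theorem sq_mem_Sq {Q : Subgroup Y} {x : Y} (hx : x ∈ Q) : x ^ 2 ∈ Sq Q := Subgroup.subset_closure ⟨x, hx, rfl⟩

theorem Sq_le_iff {Q N : Subgroup Y} : Sq Q ≤ N ↔ ∀ x ∈ Q, x ^ 2 ∈ N := by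
  unfold Sq
  rw [Subgroup.closure_le]
  exact ⟨fun h x hx => h ⟨x, hx, rfl⟩, fun h => by rintro _ ⟨x, hx, rfl⟩; exact h x hx⟩

theorem Sq_le (Q : Subgroup Y) : Sq Q ≤ Q := Sq_le_iff.2 fun x hx => pow_mem hx 2

theorem Sq_map {Q : Subgroup Y} {φ : MulAut Y} (h : ∀ x, φ x ∈ Q ↔ x ∈ Q) : ∀ x ∈ Sq Q, φ x ∈ Sq Q := by
  have h1 : Sq Q ≤ (Sq Q).comap φ.toMonoidHom := by
    rw [Sq_le_iff]
    intro x hx
    show φ (x ^ 2) ∈ Sq Q
    rw [map_pow]
    exact sq_mem_Sq ((h x).2 hx)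
  exact h1

/-- conjugation and commutators in `Q` -/
theorem comm_mem_Sq {Q : Subgroup Y} {a b : Y} (ha : a ∈ Q) (hb : b ∈ Q) : a * b * a⁻¹ * b⁻¹ ∈ Sq Q := by
  have h1 : a * b * a⁻¹ * b⁻¹ = (a * b) ^ 2 * (b⁻¹ * a ^ 2 * b)⁻¹ * (b ^ 2)⁻¹ := by
    rw [pow_two, pow_two, pow_two]
    group
  have h2 : b⁻¹ * a ^ 2 * b = (b⁻¹ * a * b) ^ 2 := by
    rw [pow_two, pow_two]
    group
  rw [h1, h2]
  exact mul_mem (mul_mem (sq_mem_Sq (mul_mem ha hb)) (inv_mem (sq_mem_Sq (mul_mem (mul_mem (inv_mem hb) ha) hb))))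
    (inv_mem (sq_mem_Sq hb))

theorem index_of_rk {n : ℕ} {Q : Subgroup Y} [Finite Y] (h : Rk n Q) : 2 ^ n ≤ (Sq Q).relIndex Q := by
  obtain ⟨N, h1, h2⟩ := exists_sq_of_rk h
  have h3 : (Sq Q).subgroupOf Q ≤ N := by
    intro x hx
    have h4 : Sq Q ≤ N.map Q.subtype := by
      rw [Sq_le_iff]
      intro y hy
      exact ⟨⟨y, hy⟩ ^ 2, h1 _, rfl⟩
    obtain ⟨y, hy, e⟩ := h4 (Subgroup.mem_subgroupOf.1 hx)
    rwa [← Subtype.ext (e : (y : Y) = x)]
  have h5 := Subgroup.index_dvd_of_le h3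
  rw [h2] at h5
  exact Nat.le_of_dvd (Nat.pos_of_ne_zero Subgroup.FiniteIndex.index_ne_zero) h5

end Cfsg.Agent.H951.K547
end

-- part: H951/K547/Gen
section
set_option linter.all false
open scoped Cfsg.Agent.FastGrp

-- part: H951/K547/Tr
section
/-!
# S4547: the number of generators of a Sylow 2-subgroup of a cyclic extension of a perfect group (helper951)

`ext_main` : `S'` normal in `G`, `S' ≤ [G, G]`, `G = S' <t>`, `|G : S'| = 2 ^ k`, `k ≥ 1`, `t ∈ P`, `P` a Sylow 2-subgroup;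
`K ≤ Q = P ∩ S'` contains the squares of `Q` and `[t, Q]`, `|Q : K| ≥ 4`. Then `P` maps onto `C_2 ^ 3`.
-/

set_option autoImplicit false

namespace Cfsg.Agent.H951.K547

open Cfsg.Agent.H821.K547 Subgroup MulAction

universe u

theorem ext_main {G : Type u} [Group G] [Finite G] (S' : Subgroup G) [hn : S'.Normal] (hperf : S' ≤ commutator G) (t : G)
    (hgen : ∀ g : G, ∃ i : ℤ, ∃ s ∈ S', g = s * t ^ i) {k : ℕ} (hk : S'.index = 2 ^ k) (hk0 : 1 ≤ k)
    (P : Sylow 2 G) (ht : t ∈ (P : Subgroup G)) (K : Subgroup G) (hKQ : K ≤ (P : Subgroup G) ⊓ S')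
    (hsq : ∀ x ∈ (P : Subgroup G) ⊓ S', x ^ 2 ∈ K) (htK : ∀ x ∈ (P : Subgroup G) ⊓ S', t * x * t⁻¹ * x⁻¹ ∈ K)
    (h4 : 4 ≤ K.relIndex ((P : Subgroup G) ⊓ S')) : Rk 3 P := by
  classical
  obtain ⟨P0, hP0⟩ : ∃ P0 : Subgroup G, P0 = (P : Subgroup G) := ⟨_, rfl⟩
  have hodd : ¬ 2 ∣ P0.index := by rw [hP0]; exact P.not_dvd_index
  suffices hgoal : Rk 3 P0 by rwa [hP0] at hgoal
  rw [← hP0] at ht hKQ hsq htK h4
  clear hP0 P
  have hdec : ∀ g ∈ P0, ∃ i : ℕ, ∃ q ∈ P0 ⊓ S', g = q * t ^ i := by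
    intro g hg
    obtain ⟨i, s, hs, e⟩ := hgen g
    have hi : t ^ i ∈ zpowers t := ⟨i, rfl⟩
    rw [← mem_powers_iff_mem_zpowers] at hi
    obtain ⟨n, hn⟩ := hi
    have hn' : t ^ n = t ^ i := hn
    rw [← hn'] at e
    refine ⟨n, s, ⟨?_, hs⟩, e⟩
    have : s = g * (t ^ n)⁻¹ := by rw [e]; group
    rw [this]
    exact P0.mul_mem hg (P0.inv_mem (P0.pow_mem ht n))
  have hKP : K ≤ P0 := hKQ.trans inf_le_left
  -- `K` is normal in `P0`
  have hKt : ∀ n : ℕ, ∀ x ∈ K, t ^ n * x * (t ^ n)⁻¹ ∈ K := by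
    intro n
    induction n with
    | zero => intro x hx; simpa using hx
    | succ n ih =>
      intro x hx
      have h1 : t ^ (n + 1) * x * (t ^ (n + 1))⁻¹ = t ^ n * ((t * x * t⁻¹ * x⁻¹) * x) * (t ^ n)⁻¹ := by
        rw [pow_succ]
        group
      rw [h1]
      exact ih _ (mul_mem (htK x (hKQ hx)) hx)
  have hKq : ∀ q ∈ P0 ⊓ S', ∀ x ∈ K, q * x * q⁻¹ ∈ K := by
    intro q hq x hx
    have h1 : q * x * q⁻¹ = (q * x) ^ 2 * x⁻¹ * (q ^ 2)⁻¹ := by
      rw [pow_two, pow_two]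
      group
    rw [h1]
    exact mul_mem (mul_mem (hsq _ (mul_mem hq (hKQ hx))) (inv_mem hx)) (inv_mem (hsq _ hq))
  have hN : (K.subgroupOf P0).Normal := by
    refine ⟨fun x hx g => ?_⟩
    rw [mem_subgroupOf] at hx ⊢
    obtain ⟨i, q, hq, e⟩ := hdec g g.2
    show (g : G) * x * (g : G)⁻¹ ∈ K
    have h1 : (g : G) * x * (g : G)⁻¹ = q * (t ^ i * x * (t ^ i)⁻¹) * q⁻¹ := by
      rw [e]
      group
    rw [h1]
    exact hKq q hq _ (hKt i _ hx)
  let μ : P0 →* P0 ⧸ K.subgroupOf P0 := QuotientGroup.mk' _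
  have hμs : Function.Surjective μ := QuotientGroup.mk'_surjective _
  have hμ1 : ∀ x : P0, μ x = 1 ↔ (x : G) ∈ K := fun x => (QuotientGroup.eq_one_iff x).trans mem_subgroupOf
  let T : P0 := ⟨t, ht⟩
  -- the quotient is commutative
  have hqq : ∀ a b : P0, (a : G) ∈ P0 ⊓ S' → (b : G) ∈ P0 ⊓ S' → Commute (μ a) (μ b) := by
    intro a b ha hb
    have h1 : μ (a * b * a⁻¹ * b⁻¹) = 1 := by
      rw [hμ1]
      have h2 : ((a * b * a⁻¹ * b⁻¹ : P0) : G) =
          ((a : G) * b) ^ 2 * (((b : G)⁻¹ * a * b) ^ 2)⁻¹ * ((b : G) ^ 2)⁻¹ := by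
        simp only [Subgroup.coe_mul, Subgroup.coe_inv, pow_two]
        group
      rw [h2]
      exact mul_mem (mul_mem (hsq _ (mul_mem ha hb)) (inv_mem (hsq _ (mul_mem (mul_mem (inv_mem hb) ha) hb))))
        (inv_mem (hsq _ hb))
    rw [map_mul, map_mul, map_mul, map_inv, map_inv, mul_inv_eq_one, mul_inv_eq_iff_eq_mul] at h1
    exact h1
  have htq : ∀ a : P0, (a : G) ∈ P0 ⊓ S' → Commute (μ T) (μ a) := by
    intro a ha
    have h1 : μ (T * a * T⁻¹ * a⁻¹) = 1 := by
      rw [hμ1]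
      exact htK _ ha
    rw [map_mul, map_mul, map_mul, map_inv, map_inv, mul_inv_eq_one, mul_inv_eq_iff_eq_mul] at h1
    exact h1
  have hform : ∀ a : P0 ⧸ K.subgroupOf P0, ∃ (i : ℕ) (q : P0), (q : G) ∈ P0 ⊓ S' ∧ a = μ q * μ T ^ i := by
    intro a
    obtain ⟨g, rfl⟩ := hμs a
    obtain ⟨i, q, hq, e⟩ := hdec g g.2
    refine ⟨i, ⟨q, hq.1⟩, hq, ?_⟩
    rw [← map_pow, ← map_mul]
    exact congrArg μ (Subtype.ext e)
  have hcomm : ∀ a b : P0 ⧸ K.subgroupOf P0, a * b = b * a := by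
    intro a b
    obtain ⟨i, q, hq, rfl⟩ := hform a
    obtain ⟨j, r, hr, rfl⟩ := hform b
    have h1 : Commute (μ q) (μ r * μ T ^ j) := (hqq q r hq hr).mul_right ((htq q hq).symm.pow_right j)
    have h2 : Commute (μ T ^ i) (μ r * μ T ^ j) := ((htq r hr).pow_left i).mul_right (Commute.pow_pow_self _ i j)
    exact h1.mul_left h2
  letI : CommGroup (P0 ⧸ K.subgroupOf P0) :=
    { (inferInstance : Group (P0 ⧸ K.subgroupOf P0)) with mul_comm := hcomm }
  have hsq1 : ∀ a : P0, (a : G) ∈ P0 ⊓ S' → μ a ^ 2 = 1 := by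
    intro a ha
    rw [← map_pow, hμ1]
    exact hsq _ ha
  -- the transfer
  let tr : G →* P0 ⧸ K.subgroupOf P0 := MonoidHom.transfer μ
  have htr1 : ∀ s ∈ S', tr s = 1 := fun s hs => (Abelianization.commutator_subset_ker tr) (hperf hs)
  obtain ⟨z, hz, hz2⟩ : ∃ z, tr t = μ T ^ P0.index * z ∧ z ^ 2 = 1 := by
    have := P0.fintypeQuotientOfFiniteIndex
    have key : ∀ q : Quotient (orbitRel (zpowers t) (G ⧸ P0)), ∃ zq, zq ^ 2 = 1 ∧
        μ ⟨q.out.out⁻¹ * t ^ Function.minimalPeriod (t • ·) q.out * q.out.out,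
          QuotientGroup.out_conj_pow_minimalPeriod_mem P0 t q.out⟩ =
          μ T ^ Function.minimalPeriod (t • ·) q.out * zq := by
      intro q
      obtain ⟨n, hn'⟩ : ∃ n, n = Function.minimalPeriod (t • ·) q.out := ⟨_, rfl⟩
      have hmem := QuotientGroup.out_conj_pow_minimalPeriod_mem P0 t q.out
      simp only [← hn'] at hmem ⊢
      obtain ⟨g, hg⟩ : ∃ g : G, g = q.out.out := ⟨_, rfl⟩
      rw [← hg] at hmem
      simp only [← hg]
      have h1 : (t ^ n)⁻¹ * (g⁻¹ * t ^ n * g) ∈ S' := by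
        obtain ⟨i, s, hs, e⟩ := hgen g
        rw [← QuotientGroup.eq_one_iff (N := S')]
        have h2 : (QuotientGroup.mk g : G ⧸ S') = QuotientGroup.mk t ^ i := by
          rw [e, QuotientGroup.mk_mul, (QuotientGroup.eq_one_iff s).2 hs, one_mul]
          rfl
        have h3 : (QuotientGroup.mk ((t ^ n)⁻¹ * (g⁻¹ * t ^ n * g)) : G ⧸ S') =
            ((QuotientGroup.mk t : G ⧸ S') ^ n)⁻¹ * ((QuotientGroup.mk g : G ⧸ S')⁻¹ * (QuotientGroup.mk t) ^ n *
              QuotientGroup.mk g) := rfl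
        rw [h3, h2]
        group
      refine ⟨μ ⟨(t ^ n)⁻¹ * (g⁻¹ * t ^ n * g), P0.mul_mem (P0.inv_mem (P0.pow_mem ht n)) hmem⟩,
        hsq1 _ ⟨P0.mul_mem (P0.inv_mem (P0.pow_mem ht n)) hmem, h1⟩, ?_⟩
      rw [← map_pow, ← map_mul]
      congr 1
      apply Subtype.ext
      show g⁻¹ * t ^ n * g = t ^ n * ((t ^ n)⁻¹ * (g⁻¹ * t ^ n * g))
      group
    choose zq hzq1 hzq2 using key
    refine ⟨∏ q, zq q, ?_, ?_⟩
    · show MonoidHom.transfer μ t = _
      rw [MonoidHom.transfer_eq_prod_quotient_orbitRel_zpowers_quot, index_eq_sum_minimalPeriod P0 t,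
        ← Finset.prod_pow_eq_pow_sum, ← Finset.prod_mul_distrib]
      exact Finset.prod_congr rfl fun q _ => hzq2 q
    · rw [← Finset.prod_pow]
      exact Finset.prod_eq_one fun q _ => hzq1 q
  -- `t ^ 2 ^ k ∈ K`
  have htS : t ^ 2 ^ k ∈ S' := by
    rw [← hk]
    exact S'.pow_index_mem t
  have hTk : μ T ^ 2 ^ k = 1 := by
    have h1 : (tr t) ^ 2 ^ k = 1 := by
      rw [← map_pow]
      exact htr1 _ htS
    have h2 : z ^ 2 ^ k = 1 := by
      obtain ⟨j, rfl⟩ : ∃ j, k = j + 1 := ⟨k - 1, by omega⟩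
      rw [pow_succ', pow_mul, hz2, one_pow]
    rw [hz, mul_pow, h2, mul_one, ← pow_mul, mul_comm, pow_mul] at h1
    have h3 : (μ T ^ 2 ^ k) ^ 2 = 1 := by
      rw [← map_pow μ T (2 ^ k)]
      exact hsq1 _ ⟨pow_mem ht _, htS⟩
    obtain ⟨m, hm⟩ : ∃ m, P0.index = 2 * m + 1 := by
      rcases Nat.even_or_odd' P0.index with ⟨m, h | h⟩
      · exact absurd ⟨m, h⟩ hodd
      · exact ⟨m, h⟩
    rw [hm, pow_succ, pow_mul, h3, one_pow, one_mul] at h1
    exact h1
  -- the subgroup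
  refine rk_of_sq (N := (zpowers ((μ T) ^ 2)).comap μ) (fun g => ?_) ?_
  · rw [mem_comap, map_pow]
    obtain ⟨i, q, hq, e⟩ := hform (μ g)
    rw [e, mul_pow, hsq1 q hq, one_mul, ← pow_mul, mul_comm, pow_mul]
    exact pow_mem (mem_zpowers _) i
  · rw [index_comap_of_surjective _ hμs]
    have h1 := (zpowers ((μ T) ^ 2)).card_mul_index
    have h2 : Nat.card (zpowers ((μ T) ^ 2)) ≤ 2 ^ (k - 1) := by
      rw [Nat.card_zpowers]
      apply orderOf_le_of_pow_eq_one (pow_pos (by norm_num) _)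
      rw [← pow_mul, ← pow_succ', show k - 1 + 1 = k by omega]
      exact hTk
    have h3 : Nat.card (P0 ⧸ K.subgroupOf P0) = K.relIndex (P0 ⊓ S') * 2 ^ k := by
      have h5 : K.relIndex (P0 ⊓ S') * (P0 ⊓ S').relIndex P0 = K.relIndex P0 := relIndex_mul_relIndex K _ P0 hKQ inf_le_left
      have h6 : (P0 ⊓ S').relIndex P0 = 2 ^ k := by
        rw [inf_comm, inf_relIndex_right]
        have h7 : S'.relIndex (P0 ⊔ S') = S'.relIndex P0 := relIndex_sup_right P0 S'
        have h8 : P0 ⊔ S' = ⊤ := by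
          rw [eq_top_iff]
          intro g _
          obtain ⟨i, s, hs, rfl⟩ := hgen g
          exact mul_mem (mem_sup_right hs) (mem_sup_left (zpow_mem ht i))
        rw [← h7, h8, relIndex_top_right, hk]
      rw [← h6, h5]
      rfl
    rw [h3] at h1
    have h9 : 2 ^ k = 2 * 2 ^ (k - 1) := by rw [← pow_succ', show k - 1 + 1 = k by omega]
    have h10 : 0 < 2 ^ (k - 1) := pow_pos (by norm_num) _
    by_contra hcon
    rw [not_le] at hcon
    have h11 : Nat.card (zpowers ((μ T) ^ 2)) * (zpowers ((μ T) ^ 2)).index ≤ 2 ^ (k - 1) * 7 :=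
      Nat.mul_le_mul h2 (by omega)
    have h12 : 4 * 2 ^ k ≤ K.relIndex (P0 ⊓ S') * 2 ^ k := Nat.mul_le_mul_right _ h4
    omega

end Cfsg.Agent.H951.K547
end

-- part: H951/K547/Psi
section
/-!
# S4547: an automorphism acting on `Q / Φ(Q)`, `Q` a Sylow 2-subgroup (helper951)

`exists_Psi` : `φ` stabilises `Q`, `φ ^ 2 ^ r = 1` on `Q`, and either `φ` is inner and `Rk 2 Q` or `φ ^ 2` is inner and
`Rk 3 Q`. Then there is `Ψ ≤ Q` containing the squares and `[φ, Q]` with `|Q : Ψ| ≥ 4`.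
-/

set_option autoImplicit false

namespace Cfsg.Agent.H951.K547

open Cfsg.Agent.H821.K547 Subgroup

universe u

variable {Y : Type u} [Group Y]

/-- the automorphisms acting trivially on `Q / Sq Q` -/
def CC (Q : Subgroup Y) : Subgroup (MulAut Y) where
  carrier := {φ | (∀ x, φ x ∈ Q ↔ x ∈ Q) ∧ ∀ x ∈ Q, φ x * x⁻¹ ∈ Sq Q}
  mul_mem' := by
    rintro φ ψ ⟨h1, h2⟩ ⟨h3, h4⟩
    refine ⟨fun x => ?_, fun x hx => ?_⟩
    · rw [MulAut.mul_apply, h1, h3]
    · rw [MulAut.mul_apply]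
      have e : φ (ψ x) * x⁻¹ = (φ (ψ x) * (ψ x)⁻¹) * (ψ x * x⁻¹) := by group
      rw [e]
      exact mul_mem (h2 _ ((h3 x).2 hx)) (h4 x hx)
  one_mem' := ⟨fun x => Iff.rfl, fun x _ => by rw [MulAut.one_apply, mul_inv_cancel]; exact one_mem _⟩
  inv_mem' := by
    rintro φ ⟨h1, h2⟩
    refine ⟨fun x => ?_, fun x hx => ?_⟩
    · rw [← h1, MulAut.apply_inv_self]
    · have h3 : φ⁻¹ x ∈ Q := by rw [← h1, MulAut.apply_inv_self]; exact hx
      have h4 := inv_mem (h2 _ h3)
      rwa [MulAut.apply_inv_self, mul_inv_rev, inv_inv] at h4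

theorem conj_mem_CC {Q : Subgroup Y} {b : Y} (hb : b ∈ Q) : MulAut.conj b ∈ CC Q := by
  refine ⟨fun x => ?_, fun x hx => ?_⟩
  · rw [MulAut.conj_apply]
    constructor
    · intro h
      have e : x = b⁻¹ * (b * x * b⁻¹) * b := by group
      rw [e]
      exact mul_mem (mul_mem (inv_mem hb) h) hb
    · intro h
      exact mul_mem (mul_mem hb h) (inv_mem hb)
  · rw [MulAut.conj_apply]
    exact comm_mem_Sq hb hx

theorem mem_CC_of_inner [Finite Y] {Q : Subgroup Y} (hQ : ¬ 2 ∣ Q.index) {b : Y}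
    (hφ : ∀ x, MulAut.conj b x ∈ Q ↔ x ∈ Q) {r : ℕ} (hr : (MulAut.conj b) ^ 2 ^ r ∈ CC Q) :
    MulAut.conj b ∈ CC Q := by
  have hb : b ∈ normalizer (Q : Set Y) := by
    rw [mem_normalizer_iff]
    intro x
    have := hφ x
    rw [MulAut.conj_apply] at this
    exact this.symm
  have h1 : b ^ Q.relIndex (normalizer (Q : Set Y)) ∈ Q := by
    have h2 := (Q.subgroupOf (normalizer (Q : Set Y))).pow_index_mem ⟨b, hb⟩
    exact h2
  have h3 : ¬ 2 ∣ Q.relIndex (normalizer (Q : Set Y)) := fun h =>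
    hQ (h.trans (relIndex_dvd_index_of_le le_normalizer))
  obtain ⟨e, he⟩ : ∃ e, e = Q.relIndex (normalizer (Q : Set Y)) := ⟨_, rfl⟩
  rw [← he] at h1 h3
  have h4 : (MulAut.conj b) ^ e ∈ CC Q := by
    rw [← map_pow]
    exact conj_mem_CC h1
  have hcop : Nat.Coprime e (2 ^ r) := Nat.Coprime.pow_right r ((Nat.Prime.coprime_iff_not_dvd Nat.prime_two).2 h3).symm
  have h5 : (MulAut.conj b : MulAut Y) = ((MulAut.conj b) ^ e) ^ (Nat.gcdA e (2 ^ r)) *
      ((MulAut.conj b) ^ 2 ^ r) ^ (Nat.gcdB e (2 ^ r)) := by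
    rw [← zpow_natCast, ← zpow_natCast, ← zpow_mul, ← zpow_mul, ← zpow_add]
    have h6 := Nat.gcd_eq_gcd_ab e (2 ^ r)
    rw [hcop] at h6
    rw [← h6]
    simp
  rw [h5]
  exact mul_mem (zpow_mem h4 _) (zpow_mem hr _)

theorem exists_Psi [Finite Y] {Q : Subgroup Y} (hQ2 : IsPGroup 2 Q) (hQ : ¬ 2 ∣ Q.index) {φ : MulAut Y}
    (hφ : ∀ x, φ x ∈ Q ↔ x ∈ Q) {r : ℕ} (hr : ∀ x ∈ Q, (φ ^ 2 ^ r) x = x)
    (h : ((∃ b : Y, φ = MulAut.conj b) ∧ Rk 2 Q) ∨ ((∃ b : Y, φ ^ 2 = MulAut.conj b) ∧ Rk 3 Q)) :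
    ∃ Ψ : Subgroup Y, Ψ ≤ Q ∧ (∀ x ∈ Q, x ^ 2 ∈ Ψ) ∧ (∀ x ∈ Q, φ x * x⁻¹ ∈ Ψ) ∧ 4 ≤ Ψ.relIndex Q := by
  classical
  have hst : ∀ n : ℕ, ∀ x, (φ ^ n) x ∈ Q ↔ x ∈ Q := by
    intro n
    induction n with
    | zero => intro x; rw [pow_zero, MulAut.one_apply]
    | succ n ih => intro x; rw [pow_succ, MulAut.mul_apply, ih, hφ]
  have hrC : φ ^ 2 ^ r ∈ CC Q := by
    refine ⟨hst _, fun x hx => ?_⟩
    rw [hr x hx, mul_inv_cancel]
    exact one_mem _
  rcases h with ⟨⟨b, rfl⟩, hrk⟩ | ⟨⟨b, hb⟩, hrk⟩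
  · exact ⟨Sq Q, Sq_le Q, fun x hx => sq_mem_Sq hx, (mem_CC_of_inner hQ hφ hrC).2, index_of_rk hrk⟩
  · have h2 : φ ^ 2 ∈ CC Q := by
      rw [hb]
      refine mem_CC_of_inner (r := r) hQ (fun x => ?_) ?_
      · rw [← hb]; exact hst 2 x
      · rw [← hb, ← pow_mul, mul_comm, pow_mul]
        exact pow_mem hrC 2
    have hn : ((Sq Q).subgroupOf Q).Normal := normal_of_sq fun x => sq_mem_Sq x.2
    let V := ↥Q ⧸ (Sq Q).subgroupOf Q
    have hV2 : ∀ v : V, v ^ 2 = 1 := by
      intro v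
      induction v using QuotientGroup.induction_on with
      | H x =>
        rw [← QuotientGroup.mk_pow]
        exact (QuotientGroup.eq_one_iff _).2 (sq_mem_Sq x.2)
    have hVc : ∀ a b : V, a * b = b * a := by
      intro a b
      have h1 := hV2 (a * b)
      have ha : a⁻¹ = a := inv_eq_of_mul_eq_one_left (by rw [← pow_two]; exact hV2 a)
      have hb : b⁻¹ = b := inv_eq_of_mul_eq_one_left (by rw [← pow_two]; exact hV2 b)
      have h2 : (a * b)⁻¹ = a * b := inv_eq_of_mul_eq_one_left (by rw [← pow_two]; exact h1)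
      rw [← h2, mul_inv_rev, ha, hb]
    letI : CommGroup V := { (inferInstance : Group V) with mul_comm := hVc }
    let π : ↥Q →* V := QuotientGroup.mk' _
    have hπs : Function.Surjective π := QuotientGroup.mk'_surjective _
    have hπ1 : ∀ x : Q, π x = 1 ↔ (x : Y) ∈ Sq Q := fun x => (QuotientGroup.eq_one_iff x).trans mem_subgroupOf
    let f : ↥Q →* ↥Q :=
      { toFun := fun x => ⟨φ x, (hφ x).2 x.2⟩
        map_one' := Subtype.ext (map_one φ)
        map_mul' := fun a b => Subtype.ext (map_mul φ (a : Y) b) }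
    let δ : ↥Q →* V :=
      { toFun := fun x => π (f x) * (π x)⁻¹
        map_one' := by simp
        map_mul' := fun a b => by
          rw [map_mul, map_mul, map_mul, mul_inv]
          exact mul_mul_mul_comm _ _ _ _ }
    have hδ : ∀ x, δ x = π (f x) * (π x)⁻¹ := fun x => rfl
    have hδ2 : ∀ x, δ x ^ 2 = 1 := fun x => hV2 _
    -- `δ` is trivial on `Sq Q`
    have hδS : ∀ x : Q, (x : Y) ∈ Sq Q → δ x = 1 := by
      intro x hx
      rw [hδ, (hπ1 x).2 hx, inv_one, mul_one, hπ1]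
      exact Sq_map hφ _ hx
    have hff : ∀ x, π (f (f x)) = π x := by
      intro x
      rw [← mul_inv_eq_one, ← map_inv, ← map_mul, hπ1]
      have := h2.2 x x.2
      rw [pow_two, MulAut.mul_apply] at this
      exact this
    have hle : (δ.range.comap π) ≤ δ.ker := by
      intro x hx
      obtain ⟨y, hy⟩ := hx
      rw [MonoidHom.mem_ker]
      have h3 : δ (x * (f y * y⁻¹)⁻¹) = 1 := by
        apply hδS
        rw [← hπ1, map_mul, map_inv, map_mul, map_inv, ← hδ, hy]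
        exact mul_inv_cancel _
      have h4 : δ (f y * y⁻¹) = 1 := by
        rw [hδ, map_mul, map_mul, map_mul, map_inv, map_inv, map_inv, hff]
        have h5 : π y * (π (f y))⁻¹ * (π (f y) * (π y)⁻¹)⁻¹ = (π y * (π (f y))⁻¹) ^ 2 := by
          rw [mul_inv_rev, inv_inv, pow_two]
        rw [h5, hV2]
      rw [map_mul, map_inv, h4, inv_one, mul_one] at h3
      exact h3
    -- the subgroup
    refine ⟨(δ.range.comap π).map Q.subtype, ?_, fun x hx => ?_, fun x hx => ?_, ?_⟩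
    · rintro _ ⟨x, -, rfl⟩
      exact x.2
    · refine ⟨⟨x, hx⟩ ^ 2, ?_, rfl⟩
      show π (⟨x, hx⟩ ^ 2) ∈ δ.range
      rw [map_pow, hV2]
      exact one_mem _
    · exact ⟨f ⟨x, hx⟩ * (⟨x, hx⟩ : Q)⁻¹, ⟨⟨x, hx⟩, by rw [hδ, map_mul, map_inv]⟩, rfl⟩
    · have e1 : ((δ.range.comap π).map Q.subtype).relIndex Q = (δ.range.comap π).index := by
        rw [relIndex, subgroupOf, comap_map_eq_self_of_injective Q.subtype_injective]
      rw [e1]
      have e2 : (δ.range.comap π).index = δ.range.index := index_comap_of_surjective _ hπs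
      have e3 : δ.range.index * Nat.card δ.range = Nat.card V := by rw [mul_comm]; exact card_mul_index _
      have e4 : 2 ^ 3 ≤ Nat.card V := index_of_rk hrk
      have e5 : Nat.card δ.range ≤ δ.range.index := by
        have h6 : δ.ker.index = Nat.card δ.range := index_ker δ
        rw [← h6, ← e2]
        exact Nat.le_of_dvd (Nat.pos_of_ne_zero FiniteIndex.index_ne_zero) (index_dvd_of_le hle)
      obtain ⟨j, hj⟩ : ∃ j, δ.range.index = 2 ^ j := by
        obtain ⟨m, hm⟩ := hQ2.exists_card_eq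
        have h7 : δ.range.index ∣ 2 ^ m := by
          rw [← hm, ← e2]
          exact index_dvd_card _
        obtain ⟨j, -, hj⟩ := (Nat.dvd_prime_pow Nat.prime_two).1 h7
        exact ⟨j, hj⟩
      rw [e2]
      rw [hj] at e3 e5 ⊢
      have h8 : 2 ≤ j := by
        by_contra hcon
        have h9 : 2 ^ j ≤ 2 := by
          calc 2 ^ j ≤ 2 ^ 1 := Nat.pow_le_pow_right (by norm_num) (by omega)
            _ = 2 := by norm_num
        have h10 : 2 ^ j * Nat.card δ.range ≤ 2 * 2 := Nat.mul_le_mul h9 (e5.trans h9)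
        omega
      calc 4 = 2 ^ 2 := by norm_num
        _ ≤ 2 ^ j := Nat.pow_le_pow_right (by norm_num) h8

end Cfsg.Agent.H951.K547
end

-- part: H951/K547/Gen
section
/-!
# S4547: the rows of outer 2-automorphisms, the general lemma (helper951)

`gen_main` : `S` finite, perfect, with trivial centre, `τ` an outer automorphism, of 2-power order modulo `Inn S`, which
stabilises a subgroup `M` of odd index; `F : M → Y` onto, compatible with an automorphism `θ` of `Y`; either `θ` is inner and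
the Sylow 2-subgroups of `Y` are not cyclic, or `θ ^ 2` is inner and the Sylow 2-subgroups of `Y` need three generators.
Then the Sylow 2-subgroups of `AutExt τ` need three generators.
-/

set_option autoImplicit false

namespace Cfsg.Agent.H951.K547

open Cfsg.Agent.H821.K547 Subgroup

open scoped commutatorElement

universe u v

theorem relIndex_sup_normal {G : Type u} [Group G] [Finite G] (H N : Subgroup G) [N.Normal] :
    H.relIndex (H ⊔ N) = H.relIndex N := by
  have h1 := relIndex_mul_relIndex (H ⊓ N) H (H ⊔ N) inf_le_left le_sup_left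
  have h2 := relIndex_mul_relIndex (H ⊓ N) N (H ⊔ N) inf_le_right le_sup_right
  rw [inf_relIndex_left] at h1
  rw [inf_relIndex_right, relIndex_sup_right] at h2
  rw [← h2, mul_comm] at h1
  refine Nat.eq_of_mul_eq_mul_right (Nat.pos_of_ne_zero ?_) h1
  exact FiniteIndex.index_ne_zero

theorem index_pow_two {G : Type u} [Group G] [Finite G] (L : Subgroup G) [L.Normal] (t : G)
    (hgen : ∀ g : G, g ∈ L ⊔ zpowers t) {k : ℕ} (hk : t ^ 2 ^ k ∈ L) : ∃ j, L.index = 2 ^ j := by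
  have h1 : zpowers (QuotientGroup.mk t : G ⧸ L) = ⊤ := by
    rw [eq_top_iff]
    intro x _
    induction x using QuotientGroup.induction_on with
    | H g =>
      have h2 := hgen g
      rw [← SetLike.mem_coe, normal_mul, Set.mem_mul] at h2
      obtain ⟨l, hl, y, ⟨i, rfl⟩, rfl⟩ := h2
      refine ⟨i, ?_⟩
      show (QuotientGroup.mk t : G ⧸ L) ^ i = QuotientGroup.mk (l * t ^ i)
      rw [QuotientGroup.mk_mul, (QuotientGroup.eq_one_iff l).2 hl, one_mul]
      rfl
  have h2 : L.index = orderOf (QuotientGroup.mk t : G ⧸ L) := by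
    rw [← Nat.card_zpowers, h1, card_top]
    rfl
  have h3 : orderOf (QuotientGroup.mk t : G ⧸ L) ∣ 2 ^ k := by
    apply orderOf_dvd_of_pow_eq_one
    rw [← QuotientGroup.mk_pow]
    exact (QuotientGroup.eq_one_iff _).2 hk
  rw [← h2] at h3
  obtain ⟨j, -, hj⟩ := (Nat.dvd_prime_pow Nat.prime_two).1 h3
  exact ⟨j, hj⟩

theorem d3_of_sylow {G : Type u} [Group G] [Finite G] (P : Sylow 2 G) (h : Rk 3 P) : D3 G := by
  intro Q
  exact rk_of_surj (Q.equiv P).toMonoidHom (Q.equiv P).surjective h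

/-- `ext_main` inside an ambient group -/
theorem ext_main' {A : Type u} [Group A] [Finite A] (N : Subgroup A) [hN : N.Normal] (hperf : ∀ H : Subgroup A, N ≤ H →
    N.subgroupOf H ≤ commutator H) (t : A) (htN : t ∉ N)
    (R : Subgroup A) (hR : IsPGroup 2 R) (hRH : R ≤ N ⊔ zpowers t) (hodd : ¬ 2 ∣ R.relIndex (N ⊔ zpowers t)) (htR : t ∈ R)
    (K : Subgroup A) (hK : K ≤ R ⊓ N) (hsq : ∀ x ∈ R ⊓ N, x ^ 2 ∈ K) (htK : ∀ x ∈ R ⊓ N, t * x * t⁻¹ * x⁻¹ ∈ K)
    (h4 : 4 ≤ K.relIndex (R ⊓ N)) : D3 ↥(N ⊔ zpowers t) := by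
  obtain ⟨H, hH⟩ : ∃ H, H = N ⊔ zpowers t := ⟨_, rfl⟩
  have hNH : N ≤ H := by rw [hH]; exact le_sup_left
  have htH : t ∈ H := by rw [hH]; exact mem_sup_right (mem_zpowers t)
  rw [← hH] at hRH hodd ⊢
  have hn : (N.subgroupOf H).Normal := inferInstance
  have hgen : ∀ g : H, ∃ i : ℤ, ∃ s ∈ N.subgroupOf H, g = s * (⟨t, htH⟩ : H) ^ i := by
    intro g
    have h2 : (g : A) ∈ N ⊔ zpowers t := by rw [← hH]; exact g.2
    rw [← SetLike.mem_coe, normal_mul, Set.mem_mul] at h2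
    obtain ⟨l, hl, y, ⟨i, rfl⟩, e⟩ := h2
    refine ⟨i, ⟨l, hNH hl⟩, hl, ?_⟩
    apply Subtype.ext
    rw [coe_mul, coe_zpow]
    exact e.symm
  have hRR : IsPGroup 2 (R.subgroupOf H) := hR.comap_subtype
  obtain ⟨P, hP⟩ : ∃ P : Sylow 2 H, (P : Subgroup H) = R.subgroupOf H := ⟨hRR.toSylow hodd, rfl⟩
  refine d3_of_sylow P ?_
  have htop : ∀ g : H, g ∈ N.subgroupOf H ⊔ zpowers (⟨t, htH⟩ : H) := by
    intro g
    obtain ⟨i, s, hs, rfl⟩ := hgen g
    exact mul_mem (mem_sup_left hs) (mem_sup_right ⟨i, rfl⟩)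
  obtain ⟨r, hr⟩ : ∃ r : ℕ, t ^ 2 ^ r = 1 := by
    obtain ⟨r, hr⟩ := hR ⟨t, htR⟩
    exact ⟨r, congrArg Subtype.val hr⟩
  obtain ⟨k, hk⟩ := index_pow_two (N.subgroupOf H) (⟨t, htH⟩ : H) htop (k := r) (by
    show t ^ 2 ^ r ∈ N
    rw [hr]
    exact one_mem N)
  have hk0 : 1 ≤ k := by
    rcases Nat.eq_zero_or_pos k with rfl | h
    · rw [pow_zero, index_eq_one] at hk
      exact absurd (show (⟨t, htH⟩ : H) ∈ N.subgroupOf H by rw [hk]; exact mem_top _) htN
    · exact h
  have einf : (P : Subgroup H) ⊓ N.subgroupOf H = (R ⊓ N).subgroupOf H := by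
    rw [hP]
    rfl
  refine ext_main (N.subgroupOf H) (hperf H hNH) ⟨t, htH⟩ hgen hk hk0 P ?_ (K.subgroupOf H) ?_ ?_ ?_ ?_
  · rw [hP]
    exact htR
  · rw [einf]
    exact comap_mono hK
  · rw [einf]
    intro x hx
    exact hsq x hx
  · rw [einf]
    intro x hx
    exact htK x hx
  · rw [einf, relIndex_subgroupOf (inf_le_left.trans hRH)]
    exact h4

variable {S : Type u} [Group S]

theorem conj_conj (τ : MulAut S) (x : S) : τ * MulAut.conj x * τ⁻¹ = MulAut.conj (τ x) := by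
  ext y
  simp [MulAut.mul_apply, MulAut.conj_apply]

theorem conj_inj (hc : center S = ⊥) : Function.Injective (MulAut.conj : S →* MulAut S) := by
  rw [injective_iff_map_eq_one]
  intro a ha
  have h1 : a ∈ center S := by
    rw [mem_center_iff]
    intro g
    have h2 := DFunLike.congr_fun ha g
    rw [MulAut.conj_apply, MulAut.one_apply] at h2
    rw [mul_inv_eq_iff_eq_mul] at h2
    exact h2.symm
  rwa [hc, mem_bot] at h1

instance range_conj_normal : (MulAut.conj : S →* MulAut S).range.Normal := by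
  refine ⟨fun n hn g => ?_⟩
  obtain ⟨x, rfl⟩ := hn
  rw [conj_conj]
  exact ⟨_, rfl⟩

theorem range_perf (hp : commutator S = ⊤) (H : Subgroup (MulAut S)) (h : (MulAut.conj : S →* MulAut S).range ≤ H) :
    (MulAut.conj : S →* MulAut S).range.subgroupOf H ≤ commutator H := by
  let f : S →* H := (MulAut.conj : S →* MulAut S).codRestrict H fun x => h ⟨x, rfl⟩
  have h1 : (MulAut.conj : S →* MulAut S).range.subgroupOf H = f.range := by
    ext x
    rw [mem_subgroupOf]
    constructor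
    · rintro ⟨y, hy⟩
      exact ⟨y, Subtype.ext hy⟩
    · rintro ⟨y, rfl⟩
      exact ⟨y, rfl⟩
  rw [h1, MonoidHom.range_eq_map, ← hp, commutator_def, commutator_def, map_commutator]
  exact commutator_mono le_top le_top

/-- the core: `τ ^ 2 ^ k = conj s` with `s ∈ M` -/
theorem gen_core [Finite S] (hc : center S = ⊥) (hp : commutator S = ⊤) (τ : MulAut S) (hni : ¬ IsInn τ)
    (M : Subgroup S) (hM : ¬ 2 ∣ M.index) (hst : ∀ x, τ x ∈ M ↔ x ∈ M)
    {k : ℕ} {s : S} (hs : s ∈ M) (hτ : τ ^ 2 ^ k = MulAut.conj s)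
    {Y : Type v} [Group Y] [Finite Y] (F : M →* Y) (hF : Function.Surjective F) (θ : MulAut Y)
    (hθ : ∀ m m' : M, (m' : S) = τ m → F m' = θ (F m))
    (hY : ((∃ b, θ = MulAut.conj b) ∧ ∀ Q : Sylow 2 Y, Rk 2 Q) ∨ ((∃ b, θ ^ 2 = MulAut.conj b) ∧ D3 Y)) :
    D3 (AutExt τ) := by
  have hinj := conj_inj hc
  have hfin : Finite (MulAut S) := inferInstance
  obtain ⟨N, hN⟩ : ∃ N, N = (MulAut.conj : S →* MulAut S).range := ⟨_, rfl⟩
  have hNn : N.Normal := by rw [hN]; infer_instance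
  have hperf : ∀ H : Subgroup (MulAut S), N ≤ H → N.subgroupOf H ≤ commutator H := by
    rw [hN]
    exact fun H h => range_perf hp H h
  have hτN : τ ∉ N := by
    rw [hN]
    rintro ⟨b, hb⟩
    exact hni ⟨b, fun x => by rw [← hb, MulAut.conj_apply]⟩
  have hAE : AutExt τ = N ⊔ zpowers τ := by rw [hN]; rfl
  let c : S →* MulAut S := MulAut.conj
  obtain ⟨L, hL⟩ : ∃ L, L = M.map c := ⟨_, rfl⟩
  have hLN : L ≤ N := by
    rw [hL, hN]
    rintro _ ⟨x, -, rfl⟩
    exact ⟨x, rfl⟩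
  have hcL : ∀ x, c x ∈ L ↔ x ∈ M := by
    intro x
    rw [hL]
    exact mem_map_iff_mem hinj
  have hLidx : L.relIndex N = M.index := by
    rw [hL, hN, MonoidHom.range_eq_map]
    rw [← relIndex_top_right M]
    exact relIndex_map_map_of_injective M ⊤ hinj
  -- `τ` normalises `L`
  have hτn : τ ∈ normalizer (L : Set (MulAut S)) := by
    rw [mem_normalizer_iff]
    intro x
    constructor
    · intro hx
      have hx' : x ∈ N := hLN hx
      rw [hN] at hx'
      obtain ⟨y, rfl⟩ := hx'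
      rw [conj_conj]
      exact (hcL _).2 ((hst y).2 ((hcL y).1 hx))
    · intro hx
      have hx' : τ * x * τ⁻¹ ∈ N := hLN hx
      have hx2 : x ∈ N := by
        have := hNn.conj_mem _ hx' τ⁻¹
        rwa [show τ⁻¹ * (τ * x * τ⁻¹) * τ⁻¹⁻¹ = x by group] at this
      rw [hN] at hx2
      obtain ⟨y, rfl⟩ := hx2
      rw [conj_conj] at hx
      exact (hcL _).2 ((hst y).1 ((hcL _).1 hx))
  obtain ⟨HM, hHM⟩ : ∃ HM, HM = L ⊔ zpowers τ := ⟨_, rfl⟩
  have hLHM : L ≤ HM := by rw [hHM]; exact le_sup_left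
  have hτHM : τ ∈ HM := by rw [hHM]; exact mem_sup_right (mem_zpowers τ)
  have hHMn : HM ≤ normalizer (L : Set (MulAut S)) := by
    rw [hHM]
    exact sup_le le_normalizer (by rw [zpowers_le]; exact hτn)
  have hLn : (L.subgroupOf HM).Normal := normal_subgroupOf_of_le_normalizer hHMn
  have hgenHM : ∀ g : HM, g ∈ L.subgroupOf HM ⊔ zpowers (⟨τ, hτHM⟩ : HM) := by
    have h1 : (⊤ : Subgroup HM) = L.subgroupOf HM ⊔ zpowers (⟨τ, hτHM⟩ : HM) := by
      have h2 : (⊤ : Subgroup HM) = (L ⊔ zpowers τ).subgroupOf HM := by rw [← hHM, subgroupOf_self]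
      have h3 : (zpowers τ).subgroupOf HM = zpowers (⟨τ, hτHM⟩ : HM) := by
        ext x
        rw [mem_subgroupOf, mem_zpowers_iff, mem_zpowers_iff]
        exact exists_congr fun i => ⟨fun h => Subtype.ext (by rw [coe_zpow]; exact h), fun h => by rw [← h, coe_zpow]⟩
      rw [h2, ← h3]
      exact subgroupOf_sup hLHM (by rw [zpowers_le]; exact hτHM)
    intro g
    rw [← h1]
    exact mem_top g
  obtain ⟨j, hj⟩ := index_pow_two (L.subgroupOf HM) (⟨τ, hτHM⟩ : HM) hgenHM (k := k) (by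
    show τ ^ 2 ^ k ∈ L
    rw [hτ]
    exact (hcL s).2 hs)
  have hj' : L.relIndex HM = 2 ^ j := hj
  -- `HM ⊓ N = L`
  have hinf : HM ⊓ N ≤ L := by
    have h1 : L.relIndex (HM ⊓ N) ∣ 2 ^ j := by
      rw [← hj', ← relIndex_mul_relIndex L (HM ⊓ N) HM (le_inf hLHM hLN) inf_le_left]
      exact dvd_mul_right _ _
    have h2 : L.relIndex (HM ⊓ N) ∣ M.index := by
      rw [← hLidx, ← relIndex_mul_relIndex L (HM ⊓ N) N (le_inf hLHM hLN) inf_le_right]
      exact dvd_mul_right _ _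
    obtain ⟨i, -, hi⟩ := (Nat.dvd_prime_pow Nat.prime_two).1 h1
    have h3 : i = 0 := by
      by_contra h
      apply hM
      refine Dvd.dvd.trans ?_ h2
      rw [hi]
      exact dvd_pow_self 2 h
    rw [h3, pow_zero, relIndex_eq_one] at hi
    exact hi
  -- the Sylow subgroup of `HM`
  obtain ⟨R0⟩ : Nonempty (Sylow 2 HM) := inferInstance
  obtain ⟨R, hR⟩ : ∃ R : Subgroup (MulAut S), R = (R0 : Subgroup HM).map HM.subtype := ⟨_, rfl⟩
  have hR2 : IsPGroup 2 R := by rw [hR]; exact R0.isPGroup'.map _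
  have hRHM : R ≤ HM := by
    rw [hR]
    rintro _ ⟨x, -, rfl⟩
    exact x.2
  have hRsub : R.subgroupOf HM = (R0 : Subgroup HM) := by
    rw [hR, subgroupOf, comap_map_eq_self_of_injective HM.subtype_injective]
  have hRtop : (R0 : Subgroup HM) ⊔ L.subgroupOf HM = ⊤ := by
    have h1 : ((R0 : Subgroup HM) ⊔ L.subgroupOf HM).index ∣ (R0 : Subgroup HM).index := index_dvd_of_le le_sup_left
    have h2 : ((R0 : Subgroup HM) ⊔ L.subgroupOf HM).index ∣ 2 ^ j := by
      rw [← hj]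
      exact index_dvd_of_le le_sup_right
    obtain ⟨i, -, hi⟩ := (Nat.dvd_prime_pow Nat.prime_two).1 h2
    have h3 : i = 0 := by
      by_contra h
      apply R0.not_dvd_index
      refine Dvd.dvd.trans ?_ h1
      rw [hi]
      exact dvd_pow_self 2 h
    rwa [h3, pow_zero, index_eq_one] at hi
  -- `t = τ c(m0) ∈ R`
  obtain ⟨m0, hm0, htR⟩ : ∃ m0 ∈ M, τ * c m0 ∈ R := by
    have h1 : (⟨τ, hτHM⟩ : HM) ∈ (R0 : Subgroup HM) ⊔ L.subgroupOf HM := by rw [hRtop]; exact mem_top _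
    rw [← SetLike.mem_coe, mul_normal, Set.mem_mul] at h1
    obtain ⟨x, hx, y, hy, e⟩ := h1
    have hy' : (y : MulAut S) ∈ L := hy
    have hy2 := hLN hy'
    rw [hN] at hy2
    obtain ⟨m, hm⟩ := hy2
    have hmM : m ∈ M := (hcL m).1 (by show MulAut.conj m ∈ L; rw [hm]; exact hy')
    refine ⟨m⁻¹, inv_mem hmM, ?_⟩
    have e' : (x : MulAut S) * y = τ := congrArg Subtype.val e
    have h2 : τ * c m⁻¹ = x := by
      rw [map_inv, ← e']
      show (x : MulAut S) * y * (MulAut.conj m)⁻¹ = x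
      rw [hm]
      group
    rw [h2, hR]
    exact ⟨x, hx, rfl⟩
  obtain ⟨t, ht⟩ : ∃ t, t = τ * c m0 := ⟨_, rfl⟩
  rw [← ht] at htR
  have hsup : N ⊔ zpowers τ = N ⊔ zpowers t := by
    have hcm : c m0 ∈ N := hLN ((hcL m0).2 hm0)
    apply le_antisymm
    · refine sup_le le_sup_left ?_
      rw [zpowers_le]
      have : τ = t * (c m0)⁻¹ := by rw [ht]; group
      rw [this]
      exact mul_mem (mem_sup_right (mem_zpowers t)) (mem_sup_left (inv_mem hcm))
    · refine sup_le le_sup_left ?_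
      rw [zpowers_le, ht]
      exact mul_mem (mem_sup_right (mem_zpowers τ)) (mem_sup_left hcm)
  have htN : t ∉ N := by
    intro h
    apply hτN
    have : τ = t * (c m0)⁻¹ := by rw [ht]; group
    rw [this]
    exact mul_mem h (inv_mem (hLN ((hcL m0).2 hm0)))
  -- odd index
  have hodd : ¬ 2 ∣ R.relIndex (N ⊔ zpowers t) := by
    have h0 : HM ⊔ N = N ⊔ zpowers t := by
      rw [← hsup, hHM]
      apply le_antisymm
      · exact sup_le (sup_le (hLN.trans le_sup_left) le_sup_right) le_sup_left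
      · exact sup_le le_sup_right (le_sup_right.trans le_sup_left)
    rw [← h0, ← relIndex_mul_relIndex R HM (HM ⊔ N) hRHM le_sup_left, relIndex_sup_normal]
    intro h
    rcases (Nat.Prime.dvd_mul Nat.prime_two).1 h with h | h
    · apply R0.not_dvd_index
      rw [← hRsub]
      exact h
    · apply hM
      rw [← hLidx]
      exact h.trans (relIndex_dvd_of_le_left N hLHM)
  -- the Sylow subgroup of `M`
  have hQ1M : R.comap c ≤ M := by
    intro x hx
    have h1 : c x ∈ L := hinf ⟨hRHM hx, by rw [hN]; exact ⟨x, rfl⟩⟩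
    exact (hcL x).1 h1
  obtain ⟨Q1, hQ1⟩ : ∃ Q1 : Subgroup M, Q1 = (R.comap c).subgroupOf M := ⟨_, rfl⟩
  have hQ1mem : ∀ m : M, m ∈ Q1 ↔ c m ∈ R := by
    intro m
    rw [hQ1]
    rfl
  have hQ1p : IsPGroup 2 Q1 := by
    intro x
    obtain ⟨r, hr⟩ := hR2 ⟨c (x : M), (hQ1mem x).1 x.2⟩
    refine ⟨r, ?_⟩
    have h1 : (c ((x : M) : S)) ^ 2 ^ r = 1 := congrArg Subtype.val hr
    rw [← map_pow, ← map_one c] at h1
    exact Subtype.ext (Subtype.ext (hinj h1))
  have hQ1i : ¬ 2 ∣ Q1.index := by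
    have h1 : Q1.index = (R0 : Subgroup HM).index := by
      rw [hQ1]
      show (R.comap c).relIndex M = _
      rw [relIndex_comap, ← hL, ← relIndex_subgroupOf hLHM, hRsub, ← relIndex_sup_normal, hRtop, relIndex_top_right]
    rw [h1]
    exact R0.not_dvd_index
  -- the image in `Y`
  obtain ⟨Q, hQ⟩ : ∃ Q : Subgroup Y, Q = Q1.map F := ⟨_, rfl⟩
  have hQp : IsPGroup 2 Q := by rw [hQ]; exact hQ1p.map F
  have hQi : ¬ 2 ∣ Q.index := by
    rw [hQ]
    intro h
    exact hQ1i (h.trans (index_map_dvd Q1 hF))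
  -- the automorphism
  obtain ⟨φ, hφ⟩ : ∃ φ : MulAut Y, φ = θ * MulAut.conj (F ⟨m0, hm0⟩) := ⟨_, rfl⟩
  have htc : ∀ x : S, t * c x * t⁻¹ = c (t x) := fun x => conj_conj t x
  have htx : ∀ x : S, t x = τ (m0 * x * m0⁻¹) := by
    intro x
    rw [ht, MulAut.mul_apply]
    rfl
  have htM : ∀ x, t x ∈ M ↔ x ∈ M := by
    intro x
    rw [htx, hst]
    constructor
    · intro h
      have := mul_mem (mul_mem (inv_mem hm0) h) hm0
      rwa [show m0⁻¹ * (m0 * x * m0⁻¹) * m0 = x by group] at this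
    · intro h
      exact mul_mem (mul_mem hm0 h) (inv_mem hm0)
  have hφF : ∀ m m' : M, (m' : S) = t m → F m' = φ (F m) := by
    intro m m' e
    rw [hφ, MulAut.mul_apply, MulAut.conj_apply, ← map_inv, ← map_mul, ← map_mul]
    apply hθ
    rw [e, htx]
    rfl
  have hcR : ∀ x : S, c (t x) ∈ R ↔ c x ∈ R := by
    intro x
    rw [← htc]
    constructor
    · intro h
      have := mul_mem (mul_mem (inv_mem htR) h) htR
      rwa [show t⁻¹ * (t * c x * t⁻¹) * t = c x by group] at this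
    · intro h
      exact mul_mem (mul_mem htR h) (inv_mem htR)
  have hφQ1 : ∀ y ∈ Q, φ y ∈ Q := by
    rw [hQ]
    rintro _ ⟨m, hm, rfl⟩
    rw [← hφF m ⟨t m, (htM m).2 m.2⟩ rfl]
    exact ⟨_, (hQ1mem _).2 ((hcR m).2 ((hQ1mem m).1 hm)), rfl⟩
  have hφQ : ∀ y, φ y ∈ Q ↔ y ∈ Q := by
    have h1 : Q.map φ.toMonoidHom = Q := by
      apply eq_of_le_of_card_ge
      · rintro _ ⟨y, hy, rfl⟩
        exact hφQ1 y hy
      · rw [card_map_of_injective φ.injective]
    intro y
    constructor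
    · intro h
      rw [← h1] at h
      obtain ⟨z, hz, e⟩ := h
      have : z = y := φ.injective e
      rwa [this] at hz
    · exact hφQ1 y
  obtain ⟨r, hr⟩ : ∃ r : ℕ, t ^ 2 ^ r = 1 := by
    obtain ⟨r, hr⟩ := hR2 ⟨t, htR⟩
    exact ⟨r, congrArg Subtype.val hr⟩
  have hpow : ∀ n : ℕ, ∀ m m' : M, (m' : S) = (t ^ n) m → F m' = (φ ^ n) (F m) := by
    intro n
    induction n with
    | zero =>
      intro m m' e
      rw [pow_zero, MulAut.one_apply] at e ⊢
      rw [Subtype.ext e]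
    | succ n ih =>
      intro m m' e
      rw [pow_succ', MulAut.mul_apply] at e ⊢
      have hmem : (t ^ n) m ∈ M := by
        rw [← htM, ← e]
        exact m'.2
      rw [← ih m ⟨_, hmem⟩ rfl]
      exact hφF _ _ e
  have hφr : ∀ y ∈ Q, (φ ^ 2 ^ r) y = y := by
    intro y _
    obtain ⟨m, rfl⟩ := hF y
    rw [← hpow (2 ^ r) m m (by rw [hr, MulAut.one_apply])]
  obtain ⟨Ψ, hΨQ, hΨsq, hΨφ, hΨ4⟩ : ∃ Ψ : Subgroup Y, Ψ ≤ Q ∧ (∀ x ∈ Q, x ^ 2 ∈ Ψ) ∧ (∀ x ∈ Q, φ x * x⁻¹ ∈ Ψ) ∧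
      4 ≤ Ψ.relIndex Q := by
    refine exists_Psi hQp hQi hφQ hφr ?_
    rcases hY with ⟨⟨b, rfl⟩, h⟩ | ⟨⟨b, hb⟩, h⟩
    · exact Or.inl ⟨⟨b * F ⟨m0, hm0⟩, by rw [hφ, map_mul]⟩, h (hQp.toSylow hQi)⟩
    · refine Or.inr ⟨?_, h (hQp.toSylow hQi)⟩
      refine ⟨θ (F ⟨m0, hm0⟩) * b * F ⟨m0, hm0⟩, ?_⟩
      obtain ⟨y0, hy0⟩ : ∃ y0, y0 = F ⟨m0, hm0⟩ := ⟨_, rfl⟩
      rw [hφ, ← hy0, map_mul, map_mul, ← hb, ← conj_conj, pow_two, pow_two]
      group
  -- the subgroup `K`
  obtain ⟨K, hK⟩ : ∃ K : Subgroup (MulAut S), K = (((Ψ.comap F) ⊓ Q1).map M.subtype).map c := ⟨_, rfl⟩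
  have hKmem : ∀ m : M, m ∈ Q1 → F m ∈ Ψ → c m ∈ K := by
    intro m h1 h2
    rw [hK]
    exact ⟨m, ⟨m, ⟨h2, h1⟩, rfl⟩, rfl⟩
  have hRN : ∀ x ∈ R ⊓ N, ∃ m : M, m ∈ Q1 ∧ c m = x := by
    intro x hx
    have h1 : x ∈ L := hinf ⟨hRHM hx.1, hx.2⟩
    rw [hL] at h1
    obtain ⟨m, hm, rfl⟩ := h1
    exact ⟨⟨m, hm⟩, (hQ1mem _).2 hx.1, rfl⟩
  rw [hAE, hsup]
  refine ext_main' N hperf t htN R hR2 ?_ hodd htR K ?_ ?_ ?_ ?_
  · exact hRHM.trans (by rw [hHM, ← hsup]; exact sup_le_sup_right hLN _)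
  · rw [hK]
    rintro _ ⟨_, ⟨m, hm, rfl⟩, rfl⟩
    exact ⟨(hQ1mem m).1 hm.2, hLN ((hcL _).2 m.2)⟩
  · intro x hx
    obtain ⟨m, hm, rfl⟩ := hRN x hx
    have h1 := hKmem (m ^ 2) (pow_mem hm 2) (by
      rw [map_pow]
      exact hΨsq _ (by rw [hQ]; exact ⟨m, hm, rfl⟩))
    rw [coe_pow, map_pow] at h1
    exact h1
  · intro x hx
    obtain ⟨m, hm, rfl⟩ := hRN x hx
    have h0 : (⟨t m, (htM m).2 m.2⟩ : M) ∈ Q1 := (hQ1mem _).2 ((hcR m).2 ((hQ1mem m).1 hm))
    have h1 := hKmem (⟨t m, (htM m).2 m.2⟩ * m⁻¹) (mul_mem h0 (inv_mem hm)) (by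
      rw [map_mul, map_inv, hφF m ⟨t m, (htM m).2 m.2⟩ rfl]
      exact hΨφ _ (by rw [hQ]; exact ⟨m, hm, rfl⟩))
    rw [htc, ← map_inv, ← map_mul]
    exact h1
  · have h1 : R ⊓ N = (Q1.map M.subtype).map c := by
      ext x
      constructor
      · intro hx
        obtain ⟨m, hm, rfl⟩ := hRN x hx
        exact ⟨m, ⟨m, hm, rfl⟩, rfl⟩
      · rintro ⟨_, ⟨m, hm, rfl⟩, rfl⟩
        exact ⟨(hQ1mem m).1 hm, hLN ((hcL _).2 m.2)⟩
    rw [h1, hK, relIndex_map_map_of_injective _ _ hinj, relIndex_map_map_of_injective _ _ M.subtype_injective,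
      inf_relIndex_right, relIndex_comap, ← hQ]
    exact hΨ4

/-! ### odd powers, inner factors -/

theorem mem_of_pow_odd {A : Type u} [Group A] (X : Subgroup A) (a : A) {e k : ℕ} (he : ¬ 2 ∣ e) (h1 : a ^ e ∈ X)
    (h2 : a ^ 2 ^ k ∈ X) : a ∈ X := by
  have hcop : Nat.Coprime e (2 ^ k) := Nat.Coprime.pow_right k ((Nat.Prime.coprime_iff_not_dvd Nat.prime_two).2 he).symm
  have h5 : a = (a ^ e) ^ (Nat.gcdA e (2 ^ k)) * (a ^ 2 ^ k) ^ (Nat.gcdB e (2 ^ k)) := by
    rw [← zpow_natCast, ← zpow_natCast, ← zpow_mul, ← zpow_mul, ← zpow_add]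
    have h6 := Nat.gcd_eq_gcd_ab e (2 ^ k)
    rw [hcop] at h6
    rw [← h6]
    simp
  rw [h5]
  exact mul_mem (zpow_mem h1 _) (zpow_mem h2 _)

theorem isInn_iff {τ : MulAut S} : IsInn τ ↔ τ ∈ (MulAut.conj : S →* MulAut S).range := by
  constructor
  · rintro ⟨s, hs⟩
    exact ⟨s, by ext x; rw [hs, MulAut.conj_apply]⟩
  · rintro ⟨s, rfl⟩
    exact ⟨s, fun x => MulAut.conj_apply s x⟩

theorem twoPow_iff {τ : MulAut S} : TwoPow τ ↔ ∃ k, τ ^ 2 ^ k ∈ (MulAut.conj : S →* MulAut S).range := by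
  constructor
  · rintro ⟨k, s, hs⟩
    exact ⟨k, s, by ext x; rw [hs, MulAut.conj_apply]⟩
  · rintro ⟨k, s, hs⟩
    exact ⟨k, s, fun x => by rw [← hs, MulAut.conj_apply]⟩

theorem isInn_conj_mul {τ : MulAut S} {s : S} : IsInn (MulAut.conj s * τ) ↔ IsInn τ := by
  rw [isInn_iff, isInn_iff]
  exact Subgroup.mul_mem_cancel_left _ ⟨s, rfl⟩

theorem twoPow_conj_mul {τ : MulAut S} {s : S} (h : TwoPow τ) : TwoPow (MulAut.conj s * τ) := by
  rw [twoPow_iff] at h ⊢
  obtain ⟨k, hk⟩ := h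
  refine ⟨k, ?_⟩
  rw [← QuotientGroup.eq_one_iff] at hk ⊢
  have h1 : (QuotientGroup.mk (MulAut.conj s) : MulAut S ⧸ (MulAut.conj : S →* MulAut S).range) = 1 :=
    (QuotientGroup.eq_one_iff _).2 ⟨s, rfl⟩
  rw [QuotientGroup.mk_pow, QuotientGroup.mk_mul, h1, one_mul, ← QuotientGroup.mk_pow]
  exact hk

theorem autExt_conj_mul {τ : MulAut S} {s : S} : AutExt (MulAut.conj s * τ) = AutExt τ := by
  unfold AutExt
  apply le_antisymm
  · refine sup_le le_sup_left ?_
    rw [zpowers_le]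
    exact mul_mem (mem_sup_left ⟨s, rfl⟩) (mem_sup_right (mem_zpowers τ))
  · refine sup_le le_sup_left ?_
    rw [zpowers_le]
    have h1 : τ = (MulAut.conj s)⁻¹ * (MulAut.conj s * τ) := by group
    rw [h1]
    exact mul_mem (mem_sup_left (inv_mem ⟨s, rfl⟩)) (mem_sup_right (by rw [← h1]; exact mem_zpowers _))

/-- **general lemma** -/
theorem gen_main [Finite S] (hc : center S = ⊥) (hp : commutator S = ⊤) (τ : MulAut S) (h2 : TwoPow τ) (hni : ¬ IsInn τ)
    (M : Subgroup S) (hM : ¬ 2 ∣ M.index) (hst : ∀ x, τ x ∈ M ↔ x ∈ M)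
    {Y : Type v} [Group Y] (F : M →* Y) (hF : Function.Surjective F) (θ : MulAut Y)
    (hθ : ∀ m m' : M, (m' : S) = τ m → F m' = θ (F m))
    (hY : ((∃ b, θ = MulAut.conj b) ∧ ∀ Q : Sylow 2 Y, Rk 2 Q) ∨ ((∃ b, θ ^ 2 = MulAut.conj b) ∧ D3 Y)) :
    D3 (AutExt τ) := by
  have hYf : Finite Y := Finite.of_surjective F hF
  rw [twoPow_iff] at h2
  obtain ⟨k, s, hs⟩ := h2
  have hpst : ∀ n : ℕ, ∀ x, (τ ^ n) x ∈ M ↔ x ∈ M := by
    intro n
    induction n with
    | zero => intro x; rw [pow_zero, MulAut.one_apply]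
    | succ n ih => intro x; rw [pow_succ, MulAut.mul_apply, ih, hst]
  have hsn : s ∈ normalizer (M : Set S) := by
    rw [mem_normalizer_iff]
    intro x
    have h1 := hpst (2 ^ k) x
    rw [← hs, MulAut.conj_apply] at h1
    exact h1.symm
  obtain ⟨e, he⟩ : ∃ e, e = M.relIndex (normalizer (M : Set S)) := ⟨_, rfl⟩
  have hse : s ^ e ∈ M := by
    have h1 := (M.subgroupOf (normalizer (M : Set S))).pow_index_mem ⟨s, hsn⟩
    rw [he]
    exact h1
  have heo : ¬ 2 ∣ e := by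
    rw [he]
    exact fun h => hM (h.trans (relIndex_dvd_index_of_le le_normalizer))
  have hpF : ∀ n : ℕ, ∀ m m' : M, (m' : S) = (τ ^ n) m → F m' = (θ ^ n) (F m) := by
    intro n
    induction n with
    | zero =>
      intro m m' h
      rw [pow_zero, MulAut.one_apply] at h ⊢
      rw [Subtype.ext h]
    | succ n ih =>
      intro m m' h
      rw [pow_succ', MulAut.mul_apply] at h ⊢
      have hmem : (τ ^ n) m ∈ M := (hpst n m).2 m.2
      rw [← ih m ⟨_, hmem⟩ rfl]
      exact hθ _ _ h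
  have hk1 : (τ ^ e) ^ 2 ^ k = MulAut.conj (s ^ e) := by
    rw [← pow_mul, mul_comm, pow_mul, ← hs, map_pow]
  have hτk : τ ^ 2 ^ k ∈ (MulAut.conj : S →* MulAut S).range := ⟨s, hs⟩
  have hni' : ¬ IsInn (τ ^ e) := by
    intro h
    apply hni
    rw [isInn_iff] at h ⊢
    exact mem_of_pow_odd _ τ heo h hτk
  have hAE : AutExt (τ ^ e) = AutExt τ := by
    unfold AutExt
    apply le_antisymm
    · refine sup_le le_sup_left ?_
      rw [zpowers_le]
      exact mem_sup_right (pow_mem (mem_zpowers τ) e)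
    · refine sup_le le_sup_left ?_
      rw [zpowers_le]
      exact mem_of_pow_odd _ τ heo (mem_sup_right (mem_zpowers _)) (mem_sup_left hτk)
  rw [← hAE]
  refine gen_core hc hp (τ ^ e) hni' M hM (hpst e) hse hk1 F hF (θ ^ e) (hpF e) ?_
  rcases hY with ⟨⟨b, rfl⟩, h⟩ | ⟨⟨b, hb⟩, h⟩
  · exact Or.inl ⟨⟨b ^ e, by rw [map_pow]⟩, h⟩
  · exact Or.inr ⟨⟨b ^ e, by rw [← pow_mul, mul_comm, pow_mul, hb, map_pow]⟩, h⟩

/-- `gen_main` for `conj s * τ` -/
theorem gen_main_conj [Finite S] (hc : center S = ⊥) (hp : commutator S = ⊤) (τ : MulAut S) (h2 : TwoPow τ)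
    (hni : ¬ IsInn τ) (s : S) (M : Subgroup S) (hM : ¬ 2 ∣ M.index) (hst : ∀ x ∈ M, (MulAut.conj s * τ) x ∈ M)
    {Y : Type v} [Group Y] (F : M →* Y) (hF : Function.Surjective F) (θ : MulAut Y)
    (hθ : ∀ m m' : M, (m' : S) = (MulAut.conj s * τ) m → F m' = θ (F m))
    (hY : ((∃ b, θ = MulAut.conj b) ∧ ∀ Q : Sylow 2 Y, Rk 2 Q) ∨ ((∃ b, θ ^ 2 = MulAut.conj b) ∧ D3 Y)) :
    D3 (AutExt τ) := by
  rw [← autExt_conj_mul (s := s)]
  refine gen_main hc hp _ (twoPow_conj_mul h2) (fun h => hni (isInn_conj_mul.1 h)) M hM ?_ F hF θ hθ hY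
  have h1 : M.map (MulAut.conj s * τ).toMonoidHom = M := by
    apply eq_of_le_of_card_ge
    · rintro _ ⟨y, hy, rfl⟩
      exact hst y hy
    · rw [card_map_of_injective (MulAut.conj s * τ).injective]
  intro y
  constructor
  · intro h
    rw [← h1] at h
    obtain ⟨z, hz, e⟩ := h
    have : z = y := (MulAut.conj s * τ).injective e
    rwa [this] at hz
  · exact hst y

/-- `θ` inner, the Sylow 2-subgroups of `Y` not cyclic -/
theorem gen_inner [Finite S] (hc : center S = ⊥) (hp : commutator S = ⊤) (τ : MulAut S) (h2 : TwoPow τ)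
    (hni : ¬ IsInn τ) (s : S) (M : Subgroup S) (hM : ¬ 2 ∣ M.index) (hst : ∀ x ∈ M, (MulAut.conj s * τ) x ∈ M)
    {Y : Type v} [Group Y] (F : M →* Y) (hF : Function.Surjective F) (y : Y)
    (hθ : ∀ m m' : M, (m' : S) = (MulAut.conj s * τ) m → F m' = y * F m * y⁻¹)
    (hY : ∀ Q : Sylow 2 Y, Rk 2 Q) : D3 (AutExt τ) :=
  gen_main_conj hc hp τ h2 hni s M hM hst F hF (MulAut.conj y) hθ (Or.inl ⟨⟨y, rfl⟩, hY⟩)

theorem center_of_simple [IsSimpleGroup S] (hna : ¬ ∀ a b : S, a * b = b * a) : center S = ⊥ := by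
  rcases (inferInstance : (center S).Normal).eq_bot_or_eq_top with h | h
  · exact h
  · exfalso
    apply hna
    intro a b
    have : b ∈ center S := by rw [h]; exact mem_top b
    exact mem_center_iff.1 this a

theorem commutator_of_simple [IsSimpleGroup S] (hna : ¬ ∀ a b : S, a * b = b * a) : commutator S = ⊤ := by
  rcases (inferInstance : (commutator S).Normal).eq_bot_or_eq_top with h | h
  · exfalso
    apply hna
    intro a b
    have h1 : ⁅a, b⁆ ∈ commutator S := commutator_mem_commutator (mem_top a) (mem_top b)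
    rw [h, mem_bot, commutatorElement_eq_one_iff_mul_comm] at h1
    exact h1
  · exact h

end Cfsg.Agent.H951.K547
end
end

-- part: H5/K547/Base
section
set_option linter.all false
open scoped Cfsg.Agent.FastGrp

/-!
# S4547: generators of Sylow 2-subgroups from odd index subgroups (helper5)
-/

set_option autoImplicit false

namespace Cfsg.Agent.H5.K547

open Cfsg.Agent.H821.K547

universe u v w

theorem rk_of_surj {n : ℕ} {P : Type u} {P' : Type v} [Group P] [Group P'] (f : P →* P') (hf : Function.Surjective f)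
    (h : Rk n P') : Rk n P := by
  obtain ⟨g, hg⟩ := h
  exact ⟨g.comp f, hg.comp hf⟩

/-- `M ≤ G` of odd index, `M` maps onto `Y`, `D3 Y` -/
theorem d3_of_map {G : Type u} {Y : Type v} [Group G] [Finite G] [Group Y] (M : Subgroup G) (hM : ¬ 2 ∣ M.index)
    (f : M →* Y) (hf : Function.Surjective f) (hY : D3 Y) : D3 G := by
  intro Q
  have R : Sylow 2 M := default
  -- a Sylow subgroup of `G` inside `M`
  have hR : IsPGroup 2 ((R : Subgroup M).map M.subtype) := R.isPGroup'.map _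
  have hi : ¬ 2 ∣ ((R : Subgroup M).map M.subtype).index := by
    rw [Subgroup.index_map_subtype]
    intro h
    rcases (Nat.Prime.dvd_mul Nat.prime_two).1 h with h | h
    · exact R.not_dvd_index h
    · exact hM h
  let R' : Sylow 2 G := hR.toSylow hi
  -- the image
  let S : Sylow 2 Y := R.mapSurjective hf
  have hS : Rk 3 ((R : Subgroup M).map f) := hY S
  have h1 : Rk 3 (R : Subgroup M) := rk_of_surj (f.subgroupMap (R : Subgroup M)) (f.subgroupMap_surjective _) hS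
  have e1 : (R : Subgroup M) ≃* ((R : Subgroup M).map M.subtype) :=
    (R : Subgroup M).equivMapOfInjective M.subtype M.subtype_injective
  have e2 : R' ≃* Q := R'.equiv Q
  have e3 : Q ≃* (R : Subgroup M) := e2.symm.trans e1.symm
  exact rk_of_surj e3.toMonoidHom e3.surjective h1

/-- the elementary abelian group of order 8 -/
theorem d3_elem : D3 (Multiplicative (Fin 3 → ZMod 2)) := by
  intro Q
  have hp : IsPGroup 2 (Multiplicative (Fin 3 → ZMod 2)) := IsPGroup.of_card (n := 3) (by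
    rw [Nat.card_congr Multiplicative.toAdd, Nat.card_fun, Nat.card_zmod, Nat.card_fin])
  have h : (Q : Subgroup (Multiplicative (Fin 3 → ZMod 2))) = ⊤ :=
    Q.is_maximal' (Q := ⊤) (hp.of_injective (Subgroup.subtype _) (Subgroup.subtype_injective _)) le_top |>.symm
  refine ⟨(Q : Subgroup (Multiplicative (Fin 3 → ZMod 2))).subtype, fun x => ⟨⟨x, ?_⟩, rfl⟩⟩
  rw [h]
  exact Subgroup.mem_top x

theorem d3_of_hom {G : Type u} [Group G] [Finite G] (M : Subgroup G) (hM : ¬ 2 ∣ M.index)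
    (f : M →* Multiplicative (Fin 3 → ZMod 2)) (hf : Function.Surjective f) : D3 G :=
  d3_of_map M hM f hf d3_elem

theorem d3_of_surj {G : Type u} {Y : Type v} [Group G] [Finite G] [Group Y] (f : G →* Y) (hf : Function.Surjective f)
    (hY : D3 Y) : D3 G :=
  d3_of_map ⊤ (by rw [Subgroup.index_top]; decide) (f.comp (Subgroup.topEquiv (G := G)).toMonoidHom)
    (hf.comp (Subgroup.topEquiv (G := G)).surjective) hY

theorem d3_congr {G : Type u} {Y : Type v} [Group G] [Finite G] [Group Y] (e : G ≃* Y) (hY : D3 Y) : D3 G :=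
  d3_of_surj e.toMonoidHom e.surjective hY

/-- an orbit of length at most two gives a homomorphism onto a group of order two -/
theorem exists_char {G : Type u} {α : Type v} [Group G] [MulAction G α] {x y : α} (hxy : x ≠ y)
    (h : ∀ g : G, g • x = x ∨ g • x = y) :
    ∃ f : G →* Multiplicative (ZMod 2), ∀ g, (g • x = x → f g = 1) ∧ (g • x = y → f g = Multiplicative.ofAdd 1) := by
  classical
  have key : ∀ a b : G, ((a * b) • x = x ↔ (a • x = x ↔ b • x = x)) := by
    intro a b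
    have ne : ∀ c : G, c • x = y → c • x ≠ x := fun c hc h' => hxy (h'.symm.trans hc)
    rcases h a with ha | ha <;> rcases h b with hb | hb
    · rw [mul_smul, hb]
      exact iff_of_true ha (iff_of_true ha rfl)
    · refine iff_of_false ?_ fun h' => ne b hb (h'.1 ha)
      rw [mul_smul, hb]
      intro h2
      exact hxy (smul_left_cancel a (ha.trans h2.symm))
    · refine iff_of_false ?_ fun h' => ne a ha (h'.2 hb)
      rw [mul_smul, hb, ha]
      exact hxy.symm
    · refine iff_of_true ?_ (iff_of_false (ne a ha) (ne b hb))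
      rcases h (a * b) with h2 | h2
      · exact h2
      · exfalso
        rw [mul_smul, hb] at h2
        exact hxy.symm (smul_left_cancel a (h2.trans ha.symm))
  refine ⟨⟨⟨fun g => if g • x = x then 1 else Multiplicative.ofAdd 1, by simp⟩, fun a b => ?_⟩, fun g => ⟨fun hg => ?_,
    fun hg => ?_⟩⟩
  · show (if (a * b) • x = x then (1 : Multiplicative (ZMod 2)) else Multiplicative.ofAdd 1) =
      (if a • x = x then 1 else Multiplicative.ofAdd 1) * (if b • x = x then 1 else Multiplicative.ofAdd 1)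
    rw [if_congr (key a b) rfl rfl]
    by_cases ha : a • x = x <;> by_cases hb : b • x = x <;> simp only [ha, hb, if_true, if_false, iff_self] <;> decide
  · show (if g • x = x then (1 : Multiplicative (ZMod 2)) else Multiplicative.ofAdd 1) = 1
    rw [if_pos hg]
  · show (if g • x = x then (1 : Multiplicative (ZMod 2)) else Multiplicative.ofAdd 1) = _
    rw [if_neg (by rw [hg]; exact hxy.symm)]

/-- three independent characters -/
theorem exists_surj {G : Type u} [Group G] (f : Fin 3 → (G →* Multiplicative (ZMod 2))) (g : Fin 3 → G)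
    (h : ∀ i j, f i (g j) = if i = j then Multiplicative.ofAdd 1 else 1) :
    ∃ F : G →* Multiplicative (Fin 3 → ZMod 2), Function.Surjective F := by
  classical
  refine ⟨⟨⟨fun x => Multiplicative.ofAdd fun i => (f i x).toAdd, ?_⟩, fun a b => ?_⟩, fun v => ?_⟩
  · simp only [map_one]
    rfl
  · simp only [map_mul]
    rfl
  · refine ⟨(g 0) ^ (v.toAdd 0).val * (g 1) ^ (v.toAdd 1).val * (g 2) ^ (v.toAdd 2).val, ?_⟩
    show Multiplicative.ofAdd (fun i => (f i _).toAdd) = v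
    apply Multiplicative.toAdd.injective
    funext i
    show (f i _).toAdd = v.toAdd i
    rw [map_mul (f i), map_mul (f i), map_pow (f i), map_pow (f i), map_pow (f i), h, h, h]
    have h2 : ∀ a : ZMod 2, Multiplicative.toAdd ((Multiplicative.ofAdd (1 : ZMod 2)) ^ a.val) = a := by decide
    fin_cases i <;> simp [h2]

end Cfsg.Agent.H5.K547
end
end
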