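import Cfsg.Agent.H921.K4.Uniq_m3
import Cfsg.Agent.H714.K4.Defs
import Cfsg.Agent.H417.DegMTwentyThree
import Cfsg.Agent.SporadicA.MathieuRecog
import Cfsg.Agent.S2037
import Cfsg.Agent.H180.MElTrans
import Cfsg.Agent.SmallSimple.PrimeLocal
import Mathlib.GroupTheory.Perm.Centralizer
import Cfsg.Agent.H618.Sigma
import Cfsg.Agent.Blocks.ExistsModular
import Cfsg.Agent.H345.K4.CentArg
import Cfsg.Agent.M22.FiveB
import Cfsg.Agent.H633.CentTwo
import Cfsg.Agent.H329.K4.SigCol
import Cfsg.Agent.OddHalf.Small.Mathieu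
import Cfsg.Agent.CharactersDeep.ColumnBessel
import Cfsg.Agent.Prune
set_option linter.all false
prune_inst 0x7fdffffdffa9bfffffff7e7fffffdffe33c4cfffffdffb4bffedef9fffffb3773fe5fba79de4daffde67e2fe38b87853fb7effffef6ffc7ffffdfdf45ffbee5ff7ffb53d71ffbff4dffe6fff9bf37fbfffffffffffffffffffffffffffffffffffffffffffff
open scoped Cfsg.Agent.FastGrp

-- part: H921/K4/M23
section
/-!
# K4 rows (S4947): the Mathieu group of degree 23 (helper921)

The degrees `1, 45, 45, 1035, 231` (H417, M23Order).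
-/

set_option autoImplicit false

namespace Cfsg.Agent.H921.K4.M23

open Cfsg Cfsg.Agent.H601.K4 Cfsg.Agent.M23Order.Base Cfsg.Agent.M23Order.Setup
  Cfsg.Agent.M23Order.ColumnEleven Cfsg.Agent.M23Order.TwentyThree

universe u

variable {S : Type u} [Group S] [Finite S]

omit [Finite S] in
theorem isM23 (h : Cfsg.Spor.IsoM23 S) : Cfsg.IsM23 S := by
  obtain ⟨e⟩ := h
  have h1 := Cfsg.Agent.S2037.simple
  exact ⟨e.isSimpleGroup, by rw [Nat.card_congr e.toEquiv, Cfsg.Agent.SporadicA.MathieuRecog.card_M23]⟩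

end Cfsg.Agent.H921.K4.M23
end

-- part: H921/K4/M23Cent
section
/-!
# Elements of order 7 of the Mathieu group of degree 23 (helper921)

* `card_centralizer_dvd` : the order of the centralizer in `M23` divides `84`;
* `card_centralizer_le` : in a group isomorphic to `M23`, the centralizer of an element of order 7 has at most 21
  elements (Sylow).
-/

set_option autoImplicit false

namespace Cfsg.Agent.H921.K4.M23Cent

open Cfsg Subgroup Cfsg.Agent.SporadicA.MathieuRecog Cfsg.Agent.H866.InvolType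

universe u

/-- The action of `M23` on the 23 points. -/
def f : Cfsg.Spor.M23 →* Equiv.Perm Pt23 := letI := act23; MulAction.toPermHom Cfsg.Spor.M23 Pt23

theorem f_injective : Function.Injective f := by
  letI := act23
  haveI := act23_faithful
  exact MulAction.toPerm_injective

theorem card_fix {t : Cfsg.Spor.M23} (ht : orderOf t = 7) :
    (Finset.univ.filter fun a : Pt23 => f t a = a).card = 2 := by
  have h1 : fx (t : Equiv.Perm Cfsg.GolayPt) = 3 :=
    Cfsg.Agent.H180.MEl.fx7 ((mem_M23_iff _).1 t.2).1 (by rw [Subgroup.orderOf_coe, ht])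
  have h2 : (Finset.univ.filter fun p : Cfsg.GolayPt => (t : Equiv.Perm Cfsg.GolayPt) p = p) =
      insert none ((Finset.univ.filter fun a : Pt23 => f t a = a).map (Function.Embedding.subtype _)) := by
    ext p
    simp only [Finset.mem_filter, Finset.mem_univ, true_and, Finset.mem_insert, Finset.mem_map,
      Function.Embedding.coe_subtype]
    constructor
    · intro h
      by_cases hp : p = none
      · exact Or.inl hp
      · exact Or.inr ⟨⟨p, hp⟩, Subtype.ext h, rfl⟩
    · rintro (rfl | ⟨a, ha, rfl⟩)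
      · exact ((mem_M23_iff _).1 t.2).2
      · exact congrArg Subtype.val ha
  unfold fx at h1
  rw [h2, Finset.card_insert_of_notMem, Finset.card_map] at h1
  · omega
  · simp only [Finset.mem_map, Function.Embedding.coe_subtype, not_exists, not_and]
    rintro ⟨a, ha⟩ _ h
    exact ha h

theorem cycleType_f {t : Cfsg.Spor.M23} (ht : orderOf t = 7) : (f t).cycleType = Multiset.replicate 3 7 := by
  have h1 : orderOf (f t) = 7 := by rw [orderOf_injective f f_injective, ht]
  obtain ⟨n, hn⟩ := Equiv.Perm.cycleType_prime_order (σ := f t) (by rw [h1]; norm_num)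
  rw [h1] at hn
  have h2 := (f t).sum_cycleType
  rw [hn, Multiset.sum_replicate, smul_eq_mul] at h2
  have h3 : (f t).support.card + (Finset.univ.filter fun a : Pt23 => f t a = a).card = 23 := by
    have e0 := Finset.card_filter_add_card_filter_not (s := (Finset.univ : Finset Pt23)) (fun a : Pt23 => f t a ≠ a)
    rw [Finset.card_univ, card_Pt23] at e0
    simp only [not_not] at e0
    exact e0
  rw [card_fix ht] at h3
  have h4 : n = 2 := by omega
  rw [hn, h4]

theorem card_centralizer_perm {t : Cfsg.Spor.M23} (ht : orderOf t = 7) :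
    Nat.card (centralizer ({f t} : Set (Equiv.Perm Pt23))) = 4116 := by
  rw [Equiv.Perm.nat_card_centralizer, cycleType_f ht, card_Pt23]
  simp only [Multiset.sum_replicate, Multiset.prod_replicate, smul_eq_mul]
  rw [show (Multiset.replicate 3 7 : Multiset ℕ).toFinset = {7} by decide, Finset.prod_singleton,
    Multiset.count_replicate_self]
  decide

theorem card_centralizer_dvd {t : Cfsg.Spor.M23} (ht : orderOf t = 7) :
    Nat.card (centralizer ({t} : Set Cfsg.Spor.M23)) ∣ 84 := by
  have h1 : Nat.card (centralizer ({t} : Set Cfsg.Spor.M23)) ∣ 4116 := by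
    rw [← card_centralizer_perm ht]
    let g : centralizer ({t} : Set Cfsg.Spor.M23) →* centralizer ({f t} : Set (Equiv.Perm Pt23)) :=
      (f.comp (centralizer ({t} : Set Cfsg.Spor.M23)).subtype).codRestrict _ (fun x => by
        rw [mem_centralizer_singleton_iff]
        have h := mem_centralizer_singleton_iff.1 x.2
        show f x.1 * f t = f t * f x.1
        rw [← map_mul, h, map_mul])
    have hg : Function.Injective g := by
      intro x y h
      exact Subtype.ext (f_injective (congrArg Subtype.val h))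
    exact Subgroup.card_dvd_of_injective g hg
  have h2 : Nat.card (centralizer ({t} : Set Cfsg.Spor.M23)) ∣ 10200960 := by
    rw [← card_M23]
    exact Subgroup.card_subgroup_dvd_card _
  have h3 := Nat.dvd_gcd h1 h2
  have h4 : Nat.gcd 4116 10200960 = 84 := by decide
  rwa [h4] at h3

theorem card_centralizer_le {S : Type u} [Group S] (h : Cfsg.Spor.IsoM23 S) {t : S} (ht : orderOf t = 7) :
    Nat.card (centralizer ({t} : Set S)) ≤ 21 := by
  obtain ⟨e⟩ := h
  have h1 := Cfsg.Agent.S2037.simple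
  have hs : IsSimpleGroup S := e.isSimpleGroup
  have hcard : Nat.card S = 10200960 := by rw [Nat.card_congr e.toEquiv, card_M23]
  have hfin : Finite S := Nat.finite_of_card_ne_zero (by rw [hcard]; norm_num)
  have h7 : Fact (Nat.Prime 7) := ⟨by norm_num⟩
  have hdvd : Nat.card (centralizer ({t} : Set S)) ∣ 84 := by
    have h2 : orderOf (e t) = 7 := (orderOf_injective e.toMonoidHom e.injective t).trans ht
    have h3 := card_centralizer_dvd h2
    rw [show Nat.card (centralizer ({t} : Set S)) = Nat.card (centralizer ({e t} : Set Cfsg.Spor.M23)) from ?_]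
    · exact h3
    · refine Nat.card_congr
        { toFun := fun x => ⟨e x.1, ?_⟩, invFun := fun y => ⟨e.symm y.1, ?_⟩, left_inv := ?_, right_inv := ?_ }
      · rw [mem_centralizer_singleton_iff]
        have h := mem_centralizer_singleton_iff.1 x.2
        rw [← map_mul, h, map_mul]
      · rw [mem_centralizer_singleton_iff]
        have h := mem_centralizer_singleton_iff.1 y.2
        apply e.injective
        simpa only [_root_.map_mul, _root_.MulEquiv.apply_symm_apply] using h
      · intro x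
        simp
      · intro x
        simp
  -- the Sylow subgroup
  have hPt : IsPGroup 7 (zpowers t) := IsPGroup.of_card (n := 1) (by rw [Nat.card_zpowers, ht, pow_one])
  obtain ⟨P, hP⟩ := hPt.exists_le_sylow
  have hPc : Nat.card P = 7 :=
    Cfsg.Agent.SmallSimple.PrimeLocal.card_of_not_sq_dvd (by rw [hcard]; norm_num) (by rw [hcard]; norm_num) P
  have hPe : (P : Subgroup S) = zpowers t := by
    refine (Subgroup.eq_of_le_of_card_ge hP ?_).symm
    rw [Nat.card_zpowers, ht]
    exact hPc.le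
  have hnc : ¬ IsMulCommutative S := by
    intro hc
    have h2 : (Nat.card S).Prime := by
      let inst : CommGroup S := { (inferInstance : Group S) with mul_comm := hc.is_comm.comm }
      exact @IsSimpleGroup.prime_card S inst hs
    rw [hcard] at h2
    norm_num at h2
  obtain ⟨e', K, hK⟩ := Cfsg.Agent.SmallSimple.PrimeLocal.exists_local hnc (p := 7) (by rw [hcard]; norm_num)
    (by rw [hcard]; norm_num) P
  have hcc : centralizer ((P : Subgroup S) : Set S) = centralizer ({t} : Set S) := by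
    rw [hPe, zpowers_eq_closure, centralizer_closure]
  have h2 := hK.card_centralizer
  have h2' : Nat.card (centralizer ({t} : Set S)) = 7 * Nat.card K := by
    rw [← hcc]
    exact h2
  have h3 := card_sylow_modEq_one 7 S
  have h4 := hK.card_eq
  have h5 := hK.dvd_pred
  have h6 := hK.one_lt
  rw [h2'] at hdvd ⊢
  rw [hcard] at h4
  generalize Nat.card K = k at hdvd h4 ⊢
  generalize Nat.card (Sylow 7 S) = n at h3 h4
  have hk : k ∣ 12 := by
    have : 7 * k ∣ 7 * 12 := hdvd
    exact Nat.dvd_of_mul_dvd_mul_left (by norm_num) this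
  have hk' : k ∈ Nat.divisors 12 := Nat.mem_divisors.2 ⟨hk, by norm_num⟩
  have he' : e' ∈ Nat.divisors 6 := Nat.mem_divisors.2 ⟨h5, by norm_num⟩
  rw [show Nat.divisors 12 = {1, 2, 3, 4, 6, 12} by decide] at hk'
  rw [show Nat.divisors 6 = {1, 2, 3, 6} by decide] at he'
  simp only [Finset.mem_insert, Finset.mem_singleton] at hk' he'
  unfold Nat.ModEq at h3
  rcases hk' with rfl | rfl | rfl | rfl | rfl | rfl <;> rcases he' with rfl | rfl | rfl | rfl <;> (clear * - h6 h3 h4; omega)

end Cfsg.Agent.H921.K4.M23Cent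
end

-- part: H921/K4/Parity
section
/-!
# K4 rows (S4947, S4547): parity of the sum of the values of the good characters (helper921)

* `exists_cube` : there is an exponent `k` with `g ^ k = g ^ 3` for the 2-elements, `g ^ k = g` for the elements of
  odd order;
* `sigFix_iff` : `SigFix χ` from one such exponent;
* `good_parity` : if `A` is a finite set of irreducible characters of odd degree, `SigFix`, in the principal
  2-block, and all other such characters vanish at the element `t` of odd order, then the integer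
  `∑ χ ∈ A, χ t` is even.
-/

set_option autoImplicit false

namespace Cfsg.Agent.H921.K4

open Cfsg Cfsg.Agent.Characters.Core Cfsg.Agent.H601.K4 Cfsg.Agent.H618.Sigma

universe u

theorem exists_cube (S : Type u) [Group S] [Finite S] : ∃ k : ℕ, Cube S k := by
  obtain ⟨a, m, hm, hn⟩ := Nat.exists_eq_pow_mul_and_not_dvd (Nat.card_pos (α := S)).ne' 2 (by norm_num)
  have hcop : Nat.Coprime (2 ^ a) m := Nat.Coprime.pow_left a ((Nat.prime_two.coprime_iff_not_dvd).2 hm)
  obtain ⟨k, hk1, hk2⟩ := Nat.chineseRemainder hcop 3 1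
  refine ⟨k, ⟨fun g hg => ?_, fun g hg => ?_⟩⟩
  · obtain ⟨j, hj⟩ := hg
    rw [pow_eq_pow_iff_modEq]
    refine hk1.of_dvd ?_
    have h1 : orderOf g ∣ 2 ^ a * m := hn ▸ orderOf_dvd_natCard g
    refine Nat.Coprime.dvd_of_dvd_mul_right ?_ h1
    rw [hj]
    exact Nat.Coprime.pow_left j ((Nat.prime_two.coprime_iff_not_dvd).2 hm)
  · have h2 : g ^ k = g ^ 1 := by
      rw [pow_eq_pow_iff_modEq]
      refine hk2.of_dvd ?_
      have h1 : orderOf g ∣ 2 ^ a * m := hn ▸ orderOf_dvd_natCard g
      refine Nat.Coprime.dvd_of_dvd_mul_left ?_ h1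
      exact Nat.Coprime.pow_right a (Nat.coprime_two_right.2 hg)
    rw [h2, pow_one]

variable {S : Type u} [Group S]

theorem sigFix_iff [Finite S] {k : ℕ} (h : Cube S k) {χ : S → ℂ} : SigFix χ ↔ ∀ g : S, χ (g ^ k) = χ g := by
  constructor
  · intro h1
    exact h1 k h.two h.odd
  · intro h1 k' h2 h3 g
    obtain ⟨x, y, rfl, hxy, hx, hy⟩ := exists_decomp g
    have e1 : (x * y) ^ k' = (x * y) ^ k := by
      rw [hxy.mul_pow, hxy.mul_pow, h2 x hx, h3 y hy, h.two x hx, h.odd y hy]
    rw [e1]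
    exact h1 _

theorem sigFix_iff_sig [Finite S] {k : ℕ} (h : Cube S k) (χ : IrrCharacter S) :
    SigFix (χ : S → ℂ) ↔ sig h χ = χ := by
  rw [sigFix_iff h, sig_eq_iff]

open Cfsg.Agent.Blocks.Local in
/-- **Parity.** -/
theorem good_parity [Finite S] {M : Ideal AlgInt} (hM : IsPModular 2 M) (hev : Even (Nat.card S)) {t : S}
    (ht : Odd (orderOf t)) (A : Finset (IrrCharacter S))
    (hA : ∀ χ ∈ A, OddIrr (χ : S → ℂ) ∧ SigFix (χ : S → ℂ) ∧ χ ∈ principalBlock M S)
    (hA' : ∀ χ : IrrCharacter S, OddIrr (χ : S → ℂ) → SigFix (χ : S → ℂ) → χ ∈ principalBlock M S → χ ∉ A →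
      (χ : S → ℂ) t = 0) (n : ℤ) (hn : ∑ χ ∈ A, (χ : S → ℂ) t = (n : ℂ)) : (2 : ℤ) ∣ n := by
  classical
  obtain ⟨k, hk⟩ := exists_cube S
  have hprime : M.IsPrime := hM.2.1.isPrime
  have := Fintype.ofFinite (OddB M S)
  have hchar := charP_resField hM
  have h1 := sum_fixed_principal hM hk hev ht
  -- the fixed members of `A`
  have hodd : ∀ χ : IrrCharacter S, Odd (charDegree (χ : S → ℂ)) ↔ OddIrr (χ : S → ℂ) := by
    intro χ
    rw [odd_iff]
    exact ⟨fun h => ⟨χ.2, h⟩, fun h => h.2⟩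
  have h2 : ∑ χ : OddB M S with sigB hk M χ = χ, redC M ((χ.1 : S → ℂ) t) =
      ∑ χ : OddB M S with χ.1 ∈ A, redC M ((χ.1 : S → ℂ) t) := by
    symm
    apply Finset.sum_subset
    · intro χ hχ
      rw [Finset.mem_filter] at hχ ⊢
      refine ⟨Finset.mem_univ _, ?_⟩
      apply Subtype.ext
      rw [sigB_coe, ← sigFix_iff_sig]
      exact (hA _ hχ.2).2.1
    · intro χ hχ hn'
      rw [Finset.mem_filter] at hχ hn'
      have h3 : χ.1 ∉ A := fun h => hn' ⟨Finset.mem_univ _, h⟩
      have h4 : sig hk χ.1 = χ.1 := by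
        rw [← sigB_coe]
        exact congrArg Subtype.val hχ.2
      rw [hA' χ.1 ((hodd _).1 χ.2.2) ((sigFix_iff_sig hk _).2 h4) χ.2.1 h3]
      exact redC_zero
  have h3 : ∑ χ : OddB M S with χ.1 ∈ A, redC M ((χ.1 : S → ℂ) t) = ∑ χ ∈ A, redC M ((χ : S → ℂ) t) := by
    refine Finset.sum_bij (fun χ _ => χ.1) ?_ ?_ ?_ ?_
    · intro χ hχ
      exact (Finset.mem_filter.1 hχ).2
    · intro χ _ ψ _ h
      exact Subtype.ext h
    · intro χ hχ
      refine ⟨⟨χ, (hA χ hχ).2.2, (hodd _).2 (hA χ hχ).1⟩, ?_, rfl⟩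
      rw [Finset.mem_filter]
      exact ⟨Finset.mem_univ _, hχ⟩
    · intro χ _
      rfl
  rw [h2, h3, ← redC_sum (fun χ _ => memLocalRing_irr χ t), hn, redC_intCast] at h1
  exact (CharP.intCast_eq_zero_iff (ResField M) 2 n).1 h1

end Cfsg.Agent.H921.K4
end

-- part: H921/K4/M23Good
section
/-!
# K4 rows (S4547): the Mathieu group of degree 23, five good characters (helper921)

The irreducible characters of odd degree have the degrees `1, 45, 45, 231, 231, 231, 253, 1035`. At an element `t` of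
order 7 the values are `1, *, *, 0, 0, 0, 1, -1`, so that (parity) the characters of degree 45 are `σ`-fixed.
-/

set_option autoImplicit false

namespace Cfsg.Agent.H921.K4.M23

open Cfsg Cfsg.Agent.H601.K4 Cfsg.Agent.M23Order.Base Cfsg.Agent.M23Order.Setup
  Cfsg.Agent.M23Order.ColumnEleven Cfsg.Agent.M23Order.TwentyThree Cfsg.Agent.Characters.Core
  Cfsg.Agent.H618.Sigma

universe u

variable {S : Type u} [Group S] [Finite S]

/-- An integral value at an element of order `p` is congruent to the degree. -/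
theorem dvd_sub_of_order {p : ℕ} [hp : Fact p.Prime] {χ : S → ℂ} (hχ : IsIrrCharacter S χ) {t : S}
    (ht : orderOf t = p) {n z : ℤ} (hn : χ 1 = n) (hz : χ t = z) : (p : ℤ) ∣ z - n := by
  obtain ⟨M, hM⟩ := Blocks.ExistsModular.exists_isPModular hp.out
  have h2 := Cfsg.Agent.CharactersDeep.ModCongr.memLocalIdeal_character_sub hM hχ t t
    ⟨1, mul_one t, Commute.one_right t, ⟨1, by rw [ht, pow_one]⟩, by
      rw [orderOf_one]; exact fun h => hp.out.one_lt.ne' (Nat.dvd_one.1 h)⟩
  rw [inv_mul_cancel, hn, hz] at h2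
  have hprime : M.IsPrime := hM.2.1.isPrime
  have h4 : (z : ℂ) - (n : ℂ) = ((z - n : ℤ) : ℂ) := by push_cast; ring
  rw [h4] at h2
  exact (Blocks.Local.memLocalIdeal_intCast_iff hM _).1 h2

/-- The value of a unique character at an element of prime order with a small centralizer. -/
theorem Uniq.value {χ : S → ℂ} (h : Uniq χ) {p : ℕ} [hp : Fact p.Prime] {t : S} (ht : orderOf t = p) {n : ℕ}
    (hn : charDegree χ = n) {c : ℕ} (hc : Nat.card (Subgroup.centralizer ({t} : Set S)) ≤ c) :
    ∃ z : ℤ, χ t = z ∧ (p : ℤ) ∣ z - n ∧ z ^ 2 ≤ c := by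
  have h1 := (Cfsg.Agent.Characters.GaloisBasic.exists_rat_iff (isIrr_isCharacter h.irr) t).2 fun m hm => h.rat m hm t
  obtain ⟨z, hz⟩ := Cfsg.Agent.Characters.GaloisBasic.exists_int_of_rat (isIrr_isCharacter h.irr) t h1
  refine ⟨z, hz, ?_, ?_⟩
  · refine dvd_sub_of_order h.irr ht ?_ hz
    rw [Cfsg.Agent.Blocks.Basic.irr_one_eq_charDegree h.irr, hn]
    push_cast
    rfl
  · have h2 := Cfsg.Agent.CharactersDeep.ColumnBessel.sum_norm_sq_le {(⟨χ, h.irr⟩ : IrrCharacter S)} t
    rw [Finset.sum_singleton] at h2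
    have h3 : ‖χ t‖ ^ 2 ≤ (c : ℝ) := h2.trans (by exact_mod_cast hc)
    rw [hz, Complex.norm_intCast, sq_abs] at h3
    exact_mod_cast h3

section

variable [IsSimpleGroup S] {H : Hyp S} {z : S} {v : IrrCharacter S → ℤ}
  {a b c d g h b₁ c₁ : IrrCharacter S}

/-- All irreducible characters. -/
theorem exists_all (K : Elev H z v a b c d g h b₁ c₁) :
    ∃ x₂ x₃ w : IrrCharacter S, dg x₂ = 231 ∧ dg x₃ = 231 ∧ dg w = 253 ∧
      ∀ χ : IrrCharacter S, ¬ 2 ∣ dg χ → χ ∈ [H.D.one, b, c, g, x₂, x₃, d, w] := by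
  classical
  have := finite_irr (G := S)
  have := Fintype.ofFinite (IrrCharacter S)
  obtain ⟨x₁, x₂, x₃, x₄, x₅, h88⟩ := exists_block K
  revert h88; rintro ⟨hx, e1, e2, e3, e4, h88⟩
  revert h88; rintro ⟨e5, ef⟩
  have hl : [H.D.one, b, c, b₁, c₁, g, x₁, x₂, x₃, x₄, x₅].toFinset = H.D.NE := by
    ext χ
    rw [List.mem_toFinset, hx]
  have hnd : [H.D.one, b, c, b₁, c₁, g, x₁, x₂, x₃, x₄, x₅].Nodup := by
    have h1 : [H.D.one, b, c, b₁, c₁, g, x₁, x₂, x₃, x₄, x₅].toFinset.card =
        [H.D.one, b, c, b₁, c₁, g, x₁, x₂, x₃, x₄, x₅].length := by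
      rw [hl, H.D.card_NE]
      rfl
    exact (Multiset.toFinset_card_eq_card_iff_nodup
      (m := ([H.D.one, b, c, b₁, c₁, g, x₁, x₂, x₃, x₄, x₅] : Multiset (IrrCharacter S)))).1 h1
  have hNE : ∑ χ ∈ H.D.NE, dg χ ^ 2 = 1 + 45 ^ 2 + 45 ^ 2 + 896 ^ 2 + 896 ^ 2 + 231 ^ 2 + 22 ^ 2 + 231 ^ 2 + 231 ^ 2 +
      990 ^ 2 + 990 ^ 2 := by
    rw [← hl, List.sum_toFinset _ hnd]
    simp only [List.map_cons, List.map_nil, List.sum_cons, List.sum_nil, dg_one H, K.dgb, K.dgc, K.dgb₁, K.dgc₁,
      K.dgg, e1, e2, e3, e4, e5]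
    norm_num
  have hX : ∑ χ ∈ H.D.X, dg χ ^ 2 = 2 * 770 ^ 2 := by
    rw [Finset.sum_congr rfl fun χ hχ => by rw [show dg χ = 770 from (H.D.deg_X χ hχ).trans ef], Finset.sum_const,
      H.D.card_X]
    norm_num
  have hout : ∀ {χ : IrrCharacter S}, dg χ % 23 = 0 → χ ∉ H.D.NE ∪ H.D.X := by
    intro χ h1 h2
    rcases Finset.mem_union.1 h2 with h3 | h3
    · rcases mod23_NE H h3 with h4 | h4 <;> omega
    · rcases mod23_X H h3 with h4 | h4 <;> omega
  have hne : ∀ {χ ψ : IrrCharacter S}, dg χ ≠ dg ψ → χ ≠ ψ := fun h h' => h (by rw [h'])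
  have h1 : h ∉ H.D.NE ∪ H.D.X := hout (by rw [K.dgh])
  have h2 : d ∉ insert h (H.D.NE ∪ H.D.X) := by
    rw [Finset.mem_insert, not_or]
    exact ⟨hne (by rw [K.dgd, K.dgh]; norm_num), hout (by rw [K.dgd])⟩
  have h3 : a ∉ insert d (insert h (H.D.NE ∪ H.D.X)) := by
    rw [Finset.mem_insert, Finset.mem_insert, not_or, not_or]
    exact ⟨hne (by rw [K.dga, K.dgd]; norm_num), hne (by rw [K.dga, K.dgh]; norm_num), hout (by rw [K.dga])⟩
  have hA : ∑ χ ∈ insert a (insert d (insert h (H.D.NE ∪ H.D.X))), dg χ ^ 2 = 10136951 := by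
    rw [Finset.sum_insert h3, Finset.sum_insert h2, Finset.sum_insert h1, Finset.sum_union H.D.disj, hNE, hX,
      K.dga, K.dgd, K.dgh]
    norm_num
  have htot := sum_dg_sq (G := S)
  rw [H.hcard, ← Finset.sum_sdiff (Finset.subset_univ (insert a (insert d (insert h (H.D.NE ∪ H.D.X))))), hA] at htot
  set R := Finset.univ \ insert a (insert d (insert h (H.D.NE ∪ H.D.X))) with hR
  have hRsum : ∑ χ ∈ R, dg χ ^ 2 = 64009 := by omega
  have hRmem : ∀ χ ∈ R, 253 ≤ dg χ := by
    intro χ hχ
    rw [hR, Finset.mem_sdiff] at hχ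
    have h4 := hχ.2
    simp only [Finset.mem_insert, Finset.mem_union, not_or] at h4
    obtain ⟨ha, hd, hh, hNE', hX'⟩ := h4
    have h5 := mod23_out H hNE' hX'
    have h6 : χ ∉ [H.D.one, b, c, b₁, c₁, g, x₁, x₂, x₃, x₄, x₅] := fun h' => hNE' ((hx χ).2 h')
    simp only [List.mem_cons, List.not_mem_nil, or_false, not_or] at h6
    have h7 := dg_mod K h6.1 ha h6.2.1 h6.2.2.1 hd h6.2.2.2.1 h6.2.2.2.2.1
    have h8 := dg_ne_zero χ
    (clear * - h5 h7 h8; omega)
  obtain ⟨w, hw⟩ : R.Nonempty := by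
    rw [Finset.nonempty_iff_ne_empty]
    intro h4
    rw [h4, Finset.sum_empty] at hRsum
    omega
  have hw1 := Finset.add_sum_erase R (fun χ => dg χ ^ 2) hw
  have hwle : 253 ^ 2 ≤ dg w ^ 2 := Nat.pow_le_pow_left (hRmem w hw) 2
  have hR1 : ∀ χ ∈ R, χ = w := by
    intro χ hχ
    by_contra hne'
    have h4 : χ ∈ R.erase w := Finset.mem_erase.2 ⟨hne', hχ⟩
    have h5 := Finset.single_le_sum (f := fun χ => dg χ ^ 2) (fun i _ => Nat.zero_le _) h4
    have h6 : 253 ^ 2 ≤ dg χ ^ 2 := Nat.pow_le_pow_left (hRmem χ hχ) 2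
    have h5' : dg χ ^ 2 ≤ ∑ χ ∈ R.erase w, dg χ ^ 2 := h5
    have hw1' : dg w ^ 2 + ∑ χ ∈ R.erase w, dg χ ^ 2 = ∑ χ ∈ R, dg χ ^ 2 := hw1
    omega
  have hw2 : dg w = 253 := by
    have h4 : dg w ^ 2 ≤ 253 ^ 2 := by
      have hw1' : dg w ^ 2 + ∑ χ ∈ R.erase w, dg χ ^ 2 = ∑ χ ∈ R, dg χ ^ 2 := hw1
      omega
    have h5 := (Nat.pow_le_pow_iff_left (n := 2) (by norm_num)).1 h4
    have h6 := hRmem w hw
    omega
  refine ⟨x₂, x₃, w, e2, e3, hw2, fun χ hodd => ?_⟩
  by_cases hχ : χ ∈ R
  · rw [hR1 χ hχ]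
    simp
  · rw [hR, Finset.mem_sdiff, not_and, not_not] at hχ
    have h4 := hχ (Finset.mem_univ _)
    simp only [Finset.mem_insert, Finset.mem_union] at h4
    rcases h4 with rfl | rfl | rfl | h4 | h4
    · have := K.dga
      omega
    · simp
    · have := K.dgh
      omega
    · have h5 := (hx χ).1 h4
      simp only [List.mem_cons, List.not_mem_nil, or_false] at h5 ⊢
      have f1 := K.dgb₁
      have f2 := K.dgc₁
      rcases h5 with rfl | rfl | rfl | rfl | rfl | rfl | rfl | rfl | rfl | rfl | rfl <;> first | omega | (clear * -; tauto)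
    · exfalso
      have h5 := H.D.deg_X χ h4
      rw [ef] at h5
      have h6 : dg χ = 770 := h5
      omega

end

theorem twoC (h : Cfsg.Spor.IsoM23 S) : H601.OddDeg.TwoC S := by
  have T : Sylow 2 S := default
  exact ⟨T, T.isPGroup', Cfsg.Agent.H633.CentTwo.CT.of_charTwo (Cfsg.Agent.OddHalf.Small.Mathieu.m23 h) T⟩

/-- [row] M23 -/
theorem good5 (h : Cfsg.Spor.IsoM23 S) : Good5 S := by
  classical
  have hT := twoC h
  have h7 : Fact (Nat.Prime 7) := ⟨by norm_num⟩
  obtain ⟨hs, H, z, v, a, b, c, d, g, h', b₁, c₁, K⟩ := Cfsg.Agent.H417.DegMTwentyThree.exists_elev' (isM23 h)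
  obtain ⟨x₂, x₃, w, e2, e3, ew, hodd⟩ := exists_all K
  have hcard : Nat.card S = 10200960 := H.hcard
  have d0 := dg_one H
  have d1 := K.dgb
  have d2 := K.dgc
  have d3 := K.dgd
  have d4 := K.dgg
  have hbc : b ≠ c := by
    have := K.nodup
    simp only [List.nodup_cons, List.mem_cons, List.not_mem_nil, or_false, not_or] at this
    exact this.2.1.1
  have hne : ∀ {χ ψ : IrrCharacter S}, dg χ ≠ dg ψ → χ ≠ ψ := fun h h' => h (by rw [h'])
  -- the characters determined by their degree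
  have huniq : ∀ ψ : IrrCharacter S, ψ ∈ [H.D.one, d, w] → Uniq (ψ : S → ℂ) := by
    intro ψ hψ
    refine ⟨ψ.2, ?_, ?_⟩
    · show ¬ 2 ∣ dg ψ
      simp only [List.mem_cons, List.not_mem_nil, or_false] at hψ
      rcases hψ with rfl | rfl | rfl <;> omega
    · intro χ hχ h1
      have h2 : dg ⟨χ, hχ⟩ = dg ψ := by
        have h3 := dg_eq ⟨χ, hχ⟩
        have h4 := dg_eq ψ
        have h5 : ((⟨χ, hχ⟩ : IrrCharacter S) : S → ℂ) 1 = (ψ : S → ℂ) 1 := h1
        rw [h3, h4] at h5
        exact_mod_cast h5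
      simp only [List.mem_cons, List.not_mem_nil, or_false] at hψ
      have h3 : ¬ 2 ∣ dg ⟨χ, hχ⟩ := by
        rw [h2]
        rcases hψ with rfl | rfl | rfl <;> omega
      have h4 := hodd _ h3
      simp only [List.mem_cons, List.not_mem_nil, or_false] at h4
      have h5 : (⟨χ, hχ⟩ : IrrCharacter S) = ψ := by
        rcases hψ with rfl | rfl | rfl <;> rcases h4 with h4 | h4 | h4 | h4 | h4 | h4 | h4 | h4 <;>
          first | exact h4 | (exfalso; rw [h4] at h2; omega)
      exact congrArg Subtype.val h5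
  have hodd1 : ∀ ψ : IrrCharacter S, ¬ 2 ∣ dg ψ → OddIrr (ψ : S → ℂ) := fun ψ hψ => ⟨ψ.2, hψ⟩
  have hB0 : ∀ ψ : IrrCharacter S, ¬ 2 ∣ dg ψ → InB0 (ψ : S → ℂ) := fun ψ hψ M hM hi => hT.mem_principalBlock hM ψ hψ
  -- an element of order seven
  obtain ⟨t, ht⟩ := exists_prime_orderOf_dvd_card' (G := S) 7 (by rw [hcard]; norm_num)
  have hc := M23Cent.card_centralizer_le h ht
  obtain ⟨zd, hzd, hzd1, hzd2⟩ := Uniq.value (huniq d (by simp)) ht d3 hc
  obtain ⟨zw, hzw, hzw1, hzw2⟩ := Uniq.value (huniq w (by simp)) ht ew hc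
  have hzd' : zd = -1 := by
    push_cast at hzd1 hzd2
    have h1 : -5 < zd ∧ zd < 5 := by constructor <;> nlinarith only [hzd2]
    omega
  have hzw' : zw = 1 := by
    push_cast at hzw1 hzw2
    have h1 : -5 < zw ∧ zw < 5 := by constructor <;> nlinarith only [hzw2]
    omega
  -- the automorphism
  obtain ⟨k, hk⟩ := exists_cube S
  have hft : Fintype S := Fintype.ofFinite S
  have hsig : ∀ ψ : IrrCharacter S, ψ = b ∨ ψ = c → sig hk ψ = b ∨ sig hk ψ = c := by
    intro ψ hψ
    have h1 : dg (sig hk ψ) = 45 := by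
      have h2 : dg (sig hk ψ) = dg ψ := charDegree_sig hk ψ
      rw [h2]
      rcases hψ with rfl | rfl <;> assumption
    have h2 := hodd (sig hk ψ) (by omega)
    simp only [List.mem_cons, List.not_mem_nil, or_false] at h2
    rcases h2 with h2 | h2 | h2 | h2 | h2 | h2 | h2 | h2 <;>
      first | exact Or.inl h2 | exact Or.inr h2 | (exfalso; rw [h2] at h1; omega)
  have hinj : ∀ χ ψ : IrrCharacter S, sig hk χ = sig hk ψ → χ = ψ := by
    intro χ ψ h1
    apply Subtype.ext
    funext x
    obtain ⟨y, rfl⟩ := (Cfsg.Agent.H740.K4.bij_pow hk).2 x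
    have h2 := congrFun (congrArg Subtype.val h1) y
    exact h2
  have hfix : SigFix (b : S → ℂ) ∧ SigFix (c : S → ℂ) := by
    rw [sigFix_iff_sig hk, sigFix_iff_sig hk]
    by_contra hcon
    have hnb : sig hk b = c ∧ sig hk c = b := by
      rcases hsig b (Or.inl rfl) with h1 | h1 <;> rcases hsig c (Or.inr rfl) with h2 | h2
      · exact absurd (hinj b c (h1.trans h2.symm)) hbc
      · exact absurd ⟨h1, h2⟩ hcon
      · exact ⟨h1, h2⟩
      · exact absurd (hinj b c (h1.trans h2.symm)) hbc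
    obtain ⟨M, hM⟩ := Blocks.ExistsModular.exists_isPModular Nat.prime_two
    have hpar := good_parity hM (t := t) (by rw [hcard]; decide) (by rw [ht]; decide) {H.D.one, d, w} (by
      intro χ hχ
      rw [Finset.mem_insert, Finset.mem_insert, Finset.mem_singleton] at hχ
      have h1 := huniq χ (by simpa using hχ)
      exact ⟨h1.oddIrr, h1.good.sig, h1.good.b0 M hM χ.2⟩) (by
      intro χ h1 h2 _ h4
      rw [Finset.mem_insert, Finset.mem_insert, Finset.mem_singleton] at h4
      have h5 := hodd χ h1.2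
      rw [sigFix_iff_sig hk] at h2
      simp only [List.mem_cons, List.not_mem_nil, or_false] at h5
      have hvan : ∀ ψ : IrrCharacter S, dg ψ = 231 → (ψ : S → ℂ) t = 0 := by
        intro ψ hψ
        refine Cfsg.Agent.M22.FiveB.vanish (p := 7) (by norm_num) (by rw [hcard]; norm_num) (by rw [hcard]; norm_num)
          ψ ?_ (by rw [ht])
        show 7 ∣ dg ψ
        rw [hψ]
        norm_num
      rcases h5 with rfl | rfl | rfl | rfl | rfl | rfl | rfl | rfl
      · exact absurd (Or.inl rfl) h4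
      · exact absurd (h2.symm.trans hnb.1) hbc
      · exact absurd (hnb.2.symm.trans h2) hbc
      · exact hvan _ d4
      · exact hvan _ e2
      · exact hvan _ e3
      · exact absurd (Or.inr (Or.inl rfl)) h4
      · exact absurd (Or.inr (Or.inr rfl)) h4) 1 (by
      have n1 : H.D.one ∉ ({d, w} : Finset (IrrCharacter S)) := by
        rw [Finset.mem_insert, Finset.mem_singleton, not_or]
        exact ⟨hne (by omega), hne (by omega)⟩
      have n2 : d ∉ ({w} : Finset (IrrCharacter S)) := by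
        rw [Finset.mem_singleton]
        exact hne (by omega)
      rw [Finset.sum_insert n1, Finset.sum_insert n2, Finset.sum_singleton, hzd, hzw, hzd', hzw', H.D.coe_one]
      simp)
    omega
  -- conclusion
  let f : Fin 5 → IrrCharacter S := ![H.D.one, b, c, d, w]
  have hf : Function.Injective f := by
    have hl : (List.ofFn f).Nodup := by
      have : List.ofFn f = [H.D.one, b, c, d, w] := by simp [f, List.ofFn_succ]
      rw [this]
      simp only [List.nodup_cons, List.mem_cons, List.not_mem_nil, or_false, not_or, List.nodup_nil, and_true,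
        not_false_eq_true]
      exact ⟨⟨hne (by omega), hne (by omega), hne (by omega), hne (by omega)⟩, ⟨hbc, hne (by omega), hne (by omega)⟩,
        ⟨hne (by omega), hne (by omega)⟩, hne (by omega)⟩
    exact List.nodup_ofFn.1 hl
  refine ⟨fun i => (f i : S → ℂ), fun i j hij => hf (Subtype.ext hij), fun i => ?_⟩
  fin_cases i
  · exact (huniq H.D.one (by simp)).good
  · exact ⟨hodd1 b (by omega), hfix.1, hB0 b (by omega)⟩
  · exact ⟨hodd1 c (by omega), hfix.2, hB0 c (by omega)⟩
  · exact (huniq d (by simp)).good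
  · exact (huniq w (by simp)).good

end Cfsg.Agent.H921.K4.M23
end
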